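import Mathlib
import Groth.Prelude.Def_GSzCSA
import Groth.Agent.H29CSA.Split
import Groth.Agent.H29CSA.Basic
import Groth.Agent.H29CSA.Subfield

/-!
# Tensor powers of central simple algebras

The Kronecker construction, tensor powers of matrix algebras, sums of exponents.
-/

set_option autoImplicit false

open scoped TensorProduct

universe u v w w'

namespace Groth.Agent.H23Brauer

variable {k : Type u} [Field k]

section kron

variable {D : Type v} [Ring D] [Algebra k D] {C : Type w} [Ring C] [Algebra k C]
  {r : ℕ} {m : Type} [Fintype m] [DecidableEq m]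

/-- The entry `(i, j)` as a linear map. -/
def entry (i j : m) : Matrix m m D →ₗ[k] D where
  toFun M := M i j
  map_add' _ _ := rfl
  map_smul' _ _ := rfl

/-- The Kronecker product of matrices along a multilinear map. -/
noncomputable def kronMap (f : MultilinearMap k (fun _ : Fin r => D) C) :
    MultilinearMap k (fun _ : Fin r => Matrix m m D) (Matrix (Fin r → m) (Fin r → m) C) :=
  (Matrix.ofLinearEquiv k).toLinearMap.compMultilinearMap
    (MultilinearMap.pi fun p => MultilinearMap.pi fun q =>
      f.compLinearMap fun l => entry (p l) (q l))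

theorem kronMap_apply (f : MultilinearMap k (fun _ : Fin r => D) C) (x : Fin r → Matrix m m D)
    (p q : Fin r → m) : kronMap f x p q = f fun l => x l (p l) (q l) := rfl

theorem kronMap_one (f : MultilinearMap k (fun _ : Fin r => D) C) (hone : f 1 = 1) :
    kronMap f (1 : Fin r → Matrix m m D) = 1 := by
  ext p q
  rw [kronMap_apply, Matrix.one_apply]
  split_ifs with h
  · subst h
    rw [← hone]
    exact congrArg f (funext fun l => by simp [Matrix.one_apply])
  · obtain ⟨l, hl⟩ := Function.ne_iff.mp h
    exact f.map_coord_zero l (by simp [Matrix.one_apply, hl])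

theorem kronMap_mul (f : MultilinearMap k (fun _ : Fin r => D) C)
    (hmul : ∀ x y, f (x * y) = f x * f y) (x y : Fin r → Matrix m m D) :
    kronMap f (x * y) = kronMap f x * kronMap f y := by
  classical
  ext p q
  rw [kronMap_apply, Matrix.mul_apply]
  simp only [Pi.mul_apply, Matrix.mul_apply, kronMap_apply]
  rw [MultilinearMap.map_sum]
  refine Finset.sum_congr rfl fun t _ => ?_
  rw [← hmul]
  rfl

end kron

section lift

variable {A : Type v} [Ring A] [Algebra k A] {B : Type w} [Ring B] [Algebra k B] {r : ℕ}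

/-- Lifting to tensor powers. -/
noncomputable def tpowLift (f : MultilinearMap k (fun _ : Fin r => A) B) (hone : f 1 = 1)
    (hmul : ∀ x y, f (x * y) = f x * f y) : CSAGal.tpow k A r →ₐ[k] B :=
  PiTensorProduct.liftAlgHom f hone hmul

theorem tpowLift_tprod (f : MultilinearMap k (fun _ : Fin r => A) B) (hone : f 1 = 1)
    (hmul : ∀ x y, f (x * y) = f x * f y) (x : Fin r → A) :
    tpowLift f hone hmul (PiTensorProduct.tprod k x) = f x :=
  PiTensorProduct.lift.tprod x

theorem finrank_tpow [FiniteDimensional k A] (r : ℕ) :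
    Module.finrank k (CSAGal.tpow k A r) = Module.finrank k A ^ r := by
  rw [Module.finrank_eq_card_basis (Basis.piTensorProduct fun _ => Module.finBasis k A),
    Fintype.card_fun, Fintype.card_fin, Fintype.card_fin]

variable {L : Type w'} [Field L] [Algebra k L]

/-- The Kronecker representation of a tensor power. -/
noncomputable def kronHom {n : ℕ} (f : A →ₐ[k] Matrix (Fin n) (Fin n) L) (r : ℕ) :
    CSAGal.tpow k A r →ₐ[k] Matrix (Fin r → Fin n) (Fin r → Fin n) L :=
  tpowLift ((kronMap (MultilinearMap.mkPiAlgebra k (Fin r) L)).compLinearMap fun _ => f.toLinearMap)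
    (by
      rw [MultilinearMap.compLinearMap_apply]
      simpa [Pi.one_def] using kronMap_one (m := Fin n) (MultilinearMap.mkPiAlgebra k (Fin r) L) (by simp))
    (fun x y => by
      simp only [MultilinearMap.compLinearMap_apply, Pi.mul_apply, AlgHom.toLinearMap_apply, map_mul]
      exact kronMap_mul (MultilinearMap.mkPiAlgebra k (Fin r) L)
        (fun a b => by simp [Finset.prod_mul_distrib]) _ _)

theorem kronHom_tprod {n : ℕ} (f : A →ₐ[k] Matrix (Fin n) (Fin n) L) (r : ℕ) (x : Fin r → A)
    (p q : Fin r → Fin n) :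
    kronHom f r (PiTensorProduct.tprod k x) p q = ∏ l, f (x l) (p l) (q l) := by
  rw [kronHom, tpowLift_tprod]
  simp [kronMap_apply]

/-- Base change of the Kronecker representation. -/
noncomputable def kronBC {n : ℕ} (f : A →ₐ[k] Matrix (Fin n) (Fin n) L) (r : ℕ) :
    L ⊗[k] CSAGal.tpow k A r →ₐ[L] Matrix (Fin r → Fin n) (Fin r → Fin n) L :=
  Algebra.TensorProduct.lift (Algebra.ofId L _) (kronHom f r)
    (fun l a => show Commute (Algebra.ofId L (Matrix (Fin r → Fin n) (Fin r → Fin n) L) l) (kronHom f r a) from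
      Algebra.commutes l (kronHom f r a))

theorem kronBC_tmul {n : ℕ} (f : A →ₐ[k] Matrix (Fin n) (Fin n) L) (r : ℕ) (c : L)
    (t : CSAGal.tpow k A r) : kronBC f r (c ⊗ₜ t) = c • kronHom f r t := by
  rw [kronBC, Algebra.TensorProduct.lift_tmul, Algebra.ofId_apply, ← Algebra.smul_def]

theorem kronBC_bijective [FiniteDimensional k A] {n : ℕ}
    (e : L ⊗[k] A ≃ₐ[L] Matrix (Fin n) (Fin n) L) (r : ℕ) :
    Function.Bijective
      (kronBC ((e.toAlgHom.restrictScalars k).comp Algebra.TensorProduct.includeRight) r) := by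
  classical
  set f : A →ₐ[k] Matrix (Fin n) (Fin n) L :=
    (e.toAlgHom.restrictScalars k).comp Algebra.TensorProduct.includeRight with hf
  let b := Module.finBasis k A
  let bL := b.baseChange L
  have hsurj : Function.Surjective (kronBC f r) := by
    suffices h : ∀ M, M ∈ LinearMap.range (kronBC f r).toLinearMap from fun M => h M
    intro M
    rw [Matrix.matrix_eq_sum_single M]
    refine Submodule.sum_mem _ fun p _ => Submodule.sum_mem _ fun q _ => ?_
    have hsingle : Matrix.single p q (1 : L) ∈ LinearMap.range (kronBC f r).toLinearMap := by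
      refine ⟨∑ s : Fin r → Fin (Module.finrank k A),
        (∏ l, bL.repr (e.symm (Matrix.single (p l) (q l) 1)) (s l)) ⊗ₜ[k]
          PiTensorProduct.tprod k fun l => b (s l), ?_⟩
      ext p' q'
      rw [AlgHom.toLinearMap_apply, map_sum, Matrix.sum_apply]
      simp only [kronBC_tmul, Matrix.smul_apply, kronHom_tprod, smul_eq_mul, ← Finset.prod_mul_distrib]
      rw [← Fintype.prod_sum fun l i => bL.repr (e.symm (Matrix.single (p l) (q l) 1)) i * f (b i) (p' l) (q' l)]
      have hl : ∀ l, ∑ i, bL.repr (e.symm (Matrix.single (p l) (q l) 1)) i * f (b i) (p' l) (q' l) =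
          Matrix.single (p l) (q l) (1 : L) (p' l) (q' l) := by
        intro l
        conv_rhs => rw [← e.apply_symm_apply (Matrix.single (p l) (q l) (1 : L)),
          ← bL.sum_repr (e.symm (Matrix.single (p l) (q l) 1))]
        rw [map_sum, Matrix.sum_apply]
        refine Finset.sum_congr rfl fun i _ => ?_
        rw [map_smul, Matrix.smul_apply, smul_eq_mul, Module.Basis.baseChange_apply]
        rfl
      simp only [hl, Matrix.single_apply]
      rw [Fintype.prod_ite_zero]
      simp [funext_iff, forall_and]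
    simpa [Matrix.smul_single] using Submodule.smul_mem _ (M p q) hsingle
  have hdim : Module.finrank L (L ⊗[k] CSAGal.tpow k A r) =
      Module.finrank L (Matrix (Fin r → Fin n) (Fin r → Fin n) L) := by
    rw [Module.finrank_baseChange, finrank_tpow, Groth.Agent.H29CSA.finrank_eq_sq_of_splits A L e,
      Module.finrank_matrix, Fintype.card_fun, Fintype.card_fin, Fintype.card_fin, Module.finrank_self,
      mul_one, ← pow_add, ← pow_mul]
    ring
  exact ⟨(LinearMap.injective_iff_surjective_of_finrank_eq_finrank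
    (f := (kronBC f r).toLinearMap) hdim).mpr hsurj, hsurj⟩

/-- A splitting field of `A` splits its tensor powers. -/
theorem splits_tpow_of_splits (h : Curves.Splits k A L) (r : ℕ) :
    Curves.Splits k (CSAGal.tpow k A r) L := by
  obtain ⟨-, -, hfin⟩ := Groth.Agent.H29CSA.csa_of_splits A L h
  obtain ⟨n, hn, ⟨e⟩⟩ := h
  refine ⟨Fintype.card (Fin r → Fin n), ?_,
    ⟨(AlgEquiv.ofBijective _ (kronBC_bijective e r)).trans
      (Matrix.reindexAlgEquiv L L (Fintype.equivFin _))⟩⟩
  simp [hn]

end lift

section csa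

variable {A : Type v} [Ring A] [Algebra k A] [IsSimpleRing A] [Algebra.IsCentral k A]
  [FiniteDimensional k A]

variable (A) in
/-- Tensor powers of central simple algebras are central simple. -/
theorem csa_tpow (r : ℕ) : Algebra.IsCentral k (CSAGal.tpow k A r) ∧
    IsSimpleRing (CSAGal.tpow k A r) ∧ FiniteDimensional k (CSAGal.tpow k A r) :=
  Groth.Agent.H29CSA.csa_of_splits _ (SeparableClosure k)
    (splits_tpow_of_splits (Groth.Agent.H29CSA.splits_separableClosure A) r)

theorem nonempty_tpow_congr {B : Type w} [Ring B] [Algebra k B] (e : A ≃ₐ[k] B) (r : ℕ) :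
    Nonempty (CSAGal.tpow k A r ≃ₐ[k] CSAGal.tpow k B r) := by
  obtain ⟨_, _, _⟩ := csa_tpow (k := k) A r
  haveI : FiniteDimensional k B := Module.Finite.equiv e.toLinearEquiv
  haveI : Nontrivial B := e.toEquiv.symm.nontrivial
  haveI : Nontrivial (CSAGal.tpow k B r) := Module.nontrivial_of_finrank_pos (R := k) (by
    rw [finrank_tpow]; exact pow_pos Module.finrank_pos r)
  refine ⟨Groth.Agent.H29CSA.equivOfFinrankEq (tpowLift
    ((PiTensorProduct.tprod k).compLinearMap fun _ => e.toLinearMap) ?_ fun x y => ?_) ?_⟩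
  · simp only [MultilinearMap.compLinearMap_apply, Pi.one_apply, AlgEquiv.toLinearMap_apply, map_one]
    rfl
  · simp only [MultilinearMap.compLinearMap_apply, AlgEquiv.toLinearMap_apply, Pi.mul_apply, map_mul]
    exact ((PiTensorProduct.tprodMonoidHom k).map_mul _ _)
  · rw [finrank_tpow, finrank_tpow, e.toLinearEquiv.finrank_eq]

/-- Tensor powers of a matrix algebra. -/
theorem nonempty_tpow_matrix (D : Type w) [Ring D] [Algebra k D] [IsSimpleRing D]
    [Algebra.IsCentral k D] [FiniteDimensional k D] (m r : ℕ) [NeZero m] :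
    Nonempty (CSAGal.tpow k (Matrix (Fin m) (Fin m) D) r ≃ₐ[k]
      Matrix (Fin (m ^ r)) (Fin (m ^ r)) (CSAGal.tpow k D r)) := by
  obtain ⟨_, _, _⟩ := csa_tpow (k := k) D r
  haveI : IsSimpleRing (Matrix (Fin m) (Fin m) D) := inferInstance
  obtain ⟨_, _, _⟩ := Groth.Agent.H29CSA.csa_of_splits (k := k) (Matrix (Fin m) (Fin m) D) (SeparableClosure k)
    (Groth.Agent.H29CSA.splits_matrix D _ m (NeZero.ne m) (Groth.Agent.H29CSA.splits_separableClosure D))
  obtain ⟨_, _, _⟩ := csa_tpow (k := k) (Matrix (Fin m) (Fin m) D) r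
  haveI : Nonempty (Fin r → Fin m) := ⟨fun _ => 0⟩
  have hmul : ∀ x y : Fin r → D, PiTensorProduct.tprod k (x * y) =
      (PiTensorProduct.tprod k x : CSAGal.tpow k D r) * PiTensorProduct.tprod k y :=
    fun x y => (PiTensorProduct.tprodMonoidHom k).map_mul x y
  refine ⟨(Groth.Agent.H29CSA.equivOfFinrankEq (tpowLift (kronMap (m := Fin m) (PiTensorProduct.tprod k))
    (kronMap_one _ rfl) (kronMap_mul _ hmul)) ?_).trans
    (Matrix.reindexAlgEquiv k _ (Fintype.equivFinOfCardEq (α := Fin r → Fin m) (n := m ^ r) (by simp)))⟩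
  rw [finrank_tpow, Module.finrank_matrix, Module.finrank_matrix, finrank_tpow, Fintype.card_fun,
    Fintype.card_fin, Fintype.card_fin, mul_pow, mul_pow]

/-- Sums of exponents. -/
theorem nonempty_tpow_add (A : Type v) [Ring A] [Algebra k A] [IsSimpleRing A]
    [Algebra.IsCentral k A] [FiniteDimensional k A] (a b : ℕ) :
    Nonempty (CSAGal.tpow k A (a + b) ≃ₐ[k] CSAGal.tpow k A a ⊗[k] CSAGal.tpow k A b) := by
  obtain ⟨_, _, _⟩ := csa_tpow (k := k) A (a + b)
  haveI : Nontrivial (CSAGal.tpow k A a ⊗[k] CSAGal.tpow k A b) := Module.nontrivial_of_finrank_pos (R := k) (by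
    rw [Module.finrank_tensorProduct, finrank_tpow, finrank_tpow]
    exact Nat.mul_pos (pow_pos Module.finrank_pos _) (pow_pos Module.finrank_pos _))
  let f : MultilinearMap k (fun _ : Fin (a + b) => A) (CSAGal.tpow k A a ⊗[k] CSAGal.tpow k A b) :=
    ((PiTensorProduct.tprod k).domCoprod (PiTensorProduct.tprod k)).domDomCongr finSumFinEquiv
  refine ⟨Groth.Agent.H29CSA.equivOfFinrankEq (tpowLift f ?_ fun x y => ?_) ?_⟩
  · simp [f, Pi.one_def, Algebra.TensorProduct.one_def, PiTensorProduct.one_def]
  · simp only [f, MultilinearMap.domDomCongr_apply, MultilinearMap.domCoprod_apply, Pi.mul_apply,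
      Algebra.TensorProduct.tmul_mul_tmul]
    exact congrArg₂ _ ((PiTensorProduct.tprodMonoidHom k).map_mul _ _)
      ((PiTensorProduct.tprodMonoidHom k).map_mul _ _)
  · rw [Module.finrank_tensorProduct, finrank_tpow, finrank_tpow, finrank_tpow, pow_add]

end csa

end Groth.Agent.H23Brauer
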