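import Mathlib
import Groth.Agent.H23Brauer.TPow
import Groth.Agent.H29CSA.Centralizer

/-!
# The antisymmetriser in a tensor power

For a central simple algebra of degree `n` there is an element of the `r`-th tensor power which
becomes, after splitting, the antisymmetriser on the `r`-th tensor power of an `n`-dimensional space;
the left ideal it generates has dimension `n ^ r * n.choose r`.
-/

set_option autoImplicit false

open scoped TensorProduct

universe u v w w'

namespace Groth.Agent.H23Brauer

variable {k : Type u} [Field k]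

section rows

variable {R : Type v} [Ring R] [Algebra k R] {ι : Type w} [Fintype ι] [DecidableEq ι]

/-- The left ideal generated by a matrix, row by row. -/
noncomputable def rowsEquiv (S : Matrix ι ι R) :
    (ι → LinearMap.range ((Matrix.vecMulLinear S).restrictScalars k)) ≃ₗ[k]
      LinearMap.range (LinearMap.mulRight k S) where
  toFun g := ⟨Matrix.of fun i => (g i : ι → R), by
    choose v hv using fun i => (g i).2
    refine ⟨Matrix.of v, ?_⟩
    ext i j
    rw [LinearMap.mulRight_apply]
    show (Matrix.vecMul (v i) S) j = (g i : ι → R) j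
    exact congrFun (hv i) j⟩
  map_add' _ _ := rfl
  map_smul' _ _ := rfl
  invFun M i := ⟨(M : Matrix ι ι R) i, by
    obtain ⟨X, hX⟩ := M.2
    exact ⟨X i, by rw [← hX]; rfl⟩⟩
  left_inv _ := rfl
  right_inv _ := rfl

theorem finrank_range_mulRight [Module.Finite k R] (S : Matrix ι ι R) :
    Module.finrank k (LinearMap.range (LinearMap.mulRight k S)) =
      Fintype.card ι * Module.finrank k (LinearMap.range ((Matrix.vecMulLinear S).restrictScalars k)) := by
  rw [← (rowsEquiv S).finrank_eq, Module.finrank_pi_fintype]
  simp

theorem dvd_finrank_range_mulRight {D : Type v} [DivisionRing D] [Algebra k D] [FiniteDimensional k D]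
    (S : Matrix ι ι D) :
    Fintype.card ι * Module.finrank k D ∣ Module.finrank k (LinearMap.range (LinearMap.mulRight k S)) := by
  rw [finrank_range_mulRight]
  refine mul_dvd_mul_left _ ?_
  have h := Module.finrank_mul_finrank k D (LinearMap.range (Matrix.vecMulLinear S))
  refine ⟨Module.finrank D (LinearMap.range (Matrix.vecMulLinear S)), ?_⟩
  rw [h]
  rfl

end rows

theorem finrank_range_mulRight_congr {A : Type v} [Ring A] [Algebra k A] {B : Type w} [Ring B]
    [Algebra k B] (e : A ≃ₐ[k] B) (a : A) :
    Module.finrank k (LinearMap.range (LinearMap.mulRight k a)) =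
      Module.finrank k (LinearMap.range (LinearMap.mulRight k (e a))) := by
  have h : (LinearMap.range (LinearMap.mulRight k a)).map (e.toLinearEquiv : A →ₗ[k] B) =
      LinearMap.range (LinearMap.mulRight k (e a)) := by
    ext x
    simp only [Submodule.mem_map, LinearMap.mem_range, LinearMap.mulRight_apply]
    constructor
    · rintro ⟨_, ⟨z, rfl⟩, rfl⟩
      exact ⟨e z, (map_mul e z a).symm⟩
    · rintro ⟨z, rfl⟩
      exact ⟨e.symm z * a, ⟨_, rfl⟩, by simp⟩
  rw [← h, LinearEquiv.finrank_map_eq]

theorem finrank_range_baseChange {L : Type w} [Field L] [Algebra k L] {V : Type v} [AddCommGroup V]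
    [Module k V] {W : Type w'} [AddCommGroup W] [Module k W] (f : V →ₗ[k] W) :
    Module.finrank L (LinearMap.range (f.baseChange L)) = Module.finrank k (LinearMap.range f) := by
  have h : f.baseChange L = ((LinearMap.range f).subtype.baseChange L).comp (f.rangeRestrict.baseChange L) := by
    rw [← LinearMap.baseChange_comp]
    rfl
  have hinj : Function.Injective ((LinearMap.range f).subtype.baseChange L) :=
    Module.Flat.lTensor_preserves_injective_linearMap (M := L) _ (Submodule.injective_subtype _)
  have hsurj : Function.Surjective (f.rangeRestrict.baseChange L) :=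
    LinearMap.lTensor_surjective L f.surjective_rangeRestrict
  rw [h, LinearMap.range_comp, LinearMap.range_eq_top.mpr hsurj, Submodule.map_top,
    LinearMap.finrank_range_of_inj hinj, Module.finrank_baseChange]

section antisym

variable (L : Type w) [Field L] (n r : ℕ)

/-- The antisymmetriser on the `r`-th tensor power of `Lⁿ`. -/
def antisym : Matrix (Fin r → Fin n) (Fin r → Fin n) L :=
  Matrix.of fun p q => ∑ π : Equiv.Perm (Fin r), if q = p ∘ π then ((Equiv.Perm.sign π : ℤ) : L) else 0

variable {L n r}

theorem antisym_comp (p : Fin r → Fin n) (τ : Equiv.Perm (Fin r)) :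
    antisym L n r (p ∘ τ) = ((Equiv.Perm.sign τ : ℤ) : L) • antisym L n r p := by
  funext q
  simp only [antisym, Matrix.of_apply, Pi.smul_apply, smul_eq_mul, Finset.mul_sum]
  refine Fintype.sum_equiv (Equiv.mulLeft τ) _ _ fun π => ?_
  by_cases h : q = (p ∘ ⇑τ) ∘ ⇑π
  · have h' : q = p ∘ ⇑(Equiv.mulLeft τ π) := h
    rw [if_pos h, if_pos h', Equiv.coe_mulLeft, Equiv.Perm.sign_mul, Units.val_mul, Int.cast_mul, ← mul_assoc, ← Int.cast_mul,
      ← Units.val_mul, Int.units_mul_self]
    simp
  · have h' : ¬ q = p ∘ ⇑(Equiv.mulLeft τ π) := h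
    rw [if_neg h, if_neg h', mul_zero]

theorem antisym_eq_zero (p : Fin r → Fin n) (hp : ¬ Function.Injective p) : antisym L n r p = 0 := by
  classical
  obtain ⟨a, b, hab, hne⟩ : ∃ a b, p a = p b ∧ a ≠ b := by
    simpa [Function.Injective] using hp
  funext q
  simp only [antisym, Matrix.of_apply, Pi.zero_apply]
  refine Finset.sum_involution (fun π _ => Equiv.swap a b * π) (fun π _ => ?_) (fun π _ _ h => ?_)
    (fun π _ => Finset.mem_univ _) (fun π _ => ?_)
  · have : p ∘ (Equiv.swap a b * π : Equiv.Perm (Fin r)) = p ∘ π := by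
      rw [Equiv.Perm.coe_mul, ← Function.comp_assoc]
      congr 1
      funext c
      rw [Function.comp_apply]
      rcases eq_or_ne c a with rfl | hca
      · rw [Equiv.swap_apply_left, hab]
      rcases eq_or_ne c b with rfl | hcb
      · rw [Equiv.swap_apply_right, hab]
      · rw [Equiv.swap_apply_of_ne_of_ne hca hcb]
    rw [this, Equiv.Perm.sign_mul, Equiv.Perm.sign_swap hne]
    split_ifs <;> simp
  · exact hne (Equiv.swap_eq_one_iff.mp (mul_eq_right.mp h))
  · simp [← mul_assoc]

/-- The strictly increasing tuple of an `r`-element subset. -/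
def tupleOf (s : {s : Finset (Fin n) // s.card = r}) : Fin r → Fin n :=
  s.1.orderEmbOfFin s.2

theorem antisym_tupleOf (s t : {s : Finset (Fin n) // s.card = r}) :
    antisym L n r (tupleOf s) (tupleOf t) = if s = t then 1 else 0 := by
  classical
  simp only [antisym, Matrix.of_apply]
  have key : ∀ π : Equiv.Perm (Fin r), tupleOf t = tupleOf s ∘ π → s = t ∧ π = 1 := by
    intro π h
    have hst : s = t := by
      apply Subtype.ext
      have h1 : Set.range (tupleOf t) = Set.range (tupleOf s) := by
        rw [h, Set.range_comp, π.range_eq_univ, Set.image_univ]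
      rw [tupleOf, tupleOf, Finset.range_orderEmbOfFin, Finset.range_orderEmbOfFin] at h1
      exact (Finset.coe_injective h1).symm
    subst hst
    exact ⟨rfl, Equiv.ext fun l => (s.1.orderEmbOfFin s.2).injective (congrFun h l).symm⟩
  by_cases hst : s = t
  · subst hst
    rw [if_pos rfl, Finset.sum_eq_single 1]
    · simp
    · intro π _ hπ
      rw [if_neg fun h => hπ (key π h).2]
    · simp
  · rw [if_neg hst]
    exact Finset.sum_eq_zero fun π _ => if_neg fun h => hst (key π h).1

theorem finrank_range_vecMulLinear_antisym :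
    Module.finrank L (LinearMap.range (Matrix.vecMulLinear (antisym L n r))) = n.choose r := by
  classical
  let v : {s : Finset (Fin n) // s.card = r} → ((Fin r → Fin n) → L) := fun s => antisym L n r (tupleOf s)
  have hli : LinearIndependent L v := by
    rw [Fintype.linearIndependent_iff]
    intro g hg t
    have := congrFun hg (tupleOf t)
    simpa [v, Finset.sum_apply, antisym_tupleOf] using this
  have hspan : LinearMap.range (Matrix.vecMulLinear (antisym L n r)) = Submodule.span L (Set.range v) := by
    rw [range_vecMulLinear]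
    refine le_antisymm (Submodule.span_le.mpr ?_) (Submodule.span_mono ?_)
    · rintro _ ⟨p, rfl⟩
      show antisym L n r p ∈ Submodule.span L (Set.range v)
      by_cases hp : Function.Injective p
      · let s : {s : Finset (Fin n) // s.card = r} :=
          ⟨Finset.univ.image p, by rw [Finset.card_image_of_injective _ hp]; simp⟩
        have hτ : Function.Injective fun l => (s.1.orderIsoOfFin s.2).symm ⟨p l, by simp [s]⟩ := fun a b h => by
          simpa using hp (congrArg Subtype.val ((s.1.orderIsoOfFin s.2).symm.injective h))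
        let τ : Equiv.Perm (Fin r) := Equiv.ofBijective _ (Finite.injective_iff_bijective.mp hτ)
        have : p = tupleOf s ∘ τ := funext fun l => by
          show p l = s.1.orderEmbOfFin s.2 _
          rw [← Finset.coe_orderIsoOfFin_apply]
          simp [τ]
        rw [this, antisym_comp]
        exact Submodule.smul_mem _ _ (Submodule.subset_span ⟨s, rfl⟩)
      · rw [antisym_eq_zero p hp]; exact Submodule.zero_mem _
    · rintro _ ⟨s, rfl⟩; exact ⟨tupleOf s, rfl⟩
  rw [hspan, finrank_span_eq_card hli, Fintype.card_finset_len, Fintype.card_fin]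

theorem finrank_range_mulRight_antisym :
    Module.finrank L (LinearMap.range (LinearMap.mulRight L (antisym L n r))) = n ^ r * n.choose r := by
  rw [finrank_range_mulRight, Fintype.card_fun, Fintype.card_fin, Fintype.card_fin]
  exact congrArg _ finrank_range_vecMulLinear_antisym

theorem kron_mul_antisym (u : Matrix (Fin n) (Fin n) L) :
    kronMap (MultilinearMap.mkPiAlgebra L (Fin r) L) (fun _ => u) * antisym L n r =
      antisym L n r * kronMap (MultilinearMap.mkPiAlgebra L (Fin r) L) (fun _ => u) := by
  classical
  ext p q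
  simp only [Matrix.mul_apply, antisym, Matrix.of_apply, Finset.mul_sum, Finset.sum_mul]
  rw [Finset.sum_comm]
  conv_rhs => rw [Finset.sum_comm]
  refine Finset.sum_congr rfl fun π _ => ?_
  rw [Finset.sum_eq_single (q ∘ π.symm), Finset.sum_eq_single (p ∘ π)]
  · simp only [Function.comp_assoc, Equiv.symm_comp_self, Function.comp_id, if_true, kronMap_apply,
      MultilinearMap.mkPiAlgebra_apply]
    rw [mul_comm]
    congr 1
    exact (Fintype.prod_equiv π (fun l => u ((p ∘ π) l) (q l)) (fun l => u (p l) ((q ∘ π.symm) l))
      (fun l => by simp)).symm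
  · intro t _ ht; simp [ht]
  · simp
  · intro t _ ht
    rw [if_neg fun h => ht (by rw [h, Function.comp_assoc, Equiv.self_comp_symm, Function.comp_id]), mul_zero]
  · simp

theorem map_antisym {L' : Type w'} [Field L'] (σ : L →+* L') :
    (antisym L n r).map σ = antisym L' n r := by
  ext p q
  simp [antisym, apply_ite σ]

end antisym

section descent

variable {A : Type v} [Ring A] [Algebra k A] [IsSimpleRing A] [Algebra.IsCentral k A]
  [FiniteDimensional k A]

theorem exists_element_finrank_range (n : ℕ) (hn : Module.finrank k A = n ^ 2) (r : ℕ) :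
    ∃ s : CSAGal.tpow k A r,
      Module.finrank k (LinearMap.range (LinearMap.mulRight k s)) = n ^ r * n.choose r := by
  classical
  obtain ⟨L, _, _, _, _, N, hN, ⟨e⟩⟩ := Groth.Agent.H29CSA.exists_galois_splitting (k := k) A
  obtain rfl : n = N := Nat.pow_left_injective two_ne_zero
    (hn.symm.trans (Groth.Agent.H29CSA.finrank_eq_sq_of_splits A L e))
  haveI : NeZero n := ⟨hN⟩
  set f : A →ₐ[k] Matrix (Fin n) (Fin n) L :=
    (e.toAlgHom.restrictScalars k).comp Algebra.TensorProduct.includeRight with hf
  obtain ⟨_, _, _⟩ := csa_tpow (k := k) A r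
  let E := AlgEquiv.ofBijective _ (kronBC_bijective e r)
  let bT := Module.finBasis k (CSAGal.tpow k A r)
  let c := (bT.baseChange L).repr (E.symm (antisym L n r))
  have hS : antisym L n r = ∑ b, c b • kronHom f r (bT b) := by
    rw [← E.apply_symm_apply (antisym L n r), ← (bT.baseChange L).sum_repr (E.symm (antisym L n r)), map_sum]
    refine Finset.sum_congr rfl fun b _ => ?_
    rw [map_smul, Module.Basis.baseChange_apply]
    congr 1
    exact (kronBC_tmul f r 1 (bT b)).trans (one_smul _ _)
  have hfix : ∀ (σ : L ≃ₐ[k] L) b, σ (c b) = c b := by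
    intro σ
    let fσ : A →ₐ[k] Matrix (Fin n) (Fin n) L := σ.toAlgHom.mapMatrix.comp f
    let ψ : L ⊗[k] A →ₐ[L] Matrix (Fin n) (Fin n) L :=
      Algebra.TensorProduct.lift (Algebra.ofId L _) fσ
        (fun l a => show Commute (Algebra.ofId L (Matrix (Fin n) (Fin n) L) l) (fσ a) from Algebra.commutes l (fσ a))
    obtain ⟨u, hu⟩ := Groth.Agent.H29CSA.skolem_noether (ψ.comp e.symm.toAlgHom) (AlgHom.id L _)
    have hfu : ∀ a, fσ a = (u : Matrix (Fin n) (Fin n) L) * f a * (u⁻¹ : (Matrix (Fin n) (Fin n) L)ˣ) := by
      intro a
      have := hu (f a)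
      simpa [ψ, hf] using this
    let K := kronMap (r := r) (m := Fin n) (MultilinearMap.mkPiAlgebra L (Fin r) L)
    let U : Matrix (Fin r → Fin n) (Fin r → Fin n) L := K fun _ => (u : Matrix (Fin n) (Fin n) L)
    let V : Matrix (Fin r → Fin n) (Fin r → Fin n) L := K fun _ => ((u⁻¹ : (Matrix (Fin n) (Fin n) L)ˣ) : Matrix (Fin n) (Fin n) L)
    have hmk : ∀ x y : Fin r → L, MultilinearMap.mkPiAlgebra L (Fin r) L (x * y) =
        MultilinearMap.mkPiAlgebra L (Fin r) L x * MultilinearMap.mkPiAlgebra L (Fin r) L y :=
      fun x y => by simp [Finset.prod_mul_distrib]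
    have hUV : U * V = 1 := by
      rw [← kronMap_mul _ hmk]
      simp only [Pi.mul_def, Units.mul_inv]
      exact kronMap_one _ (by simp)
    have hconj : ∀ t, (kronHom f r t).map σ = U * kronHom f r t * V := by
      intro t
      induction t using PiTensorProduct.induction_on with
      | smul_tprod a x =>
        have hx : (kronHom f r (PiTensorProduct.tprod k x)).map σ =
            U * kronHom f r (PiTensorProduct.tprod k x) * V := by
          have h2 : kronHom f r (PiTensorProduct.tprod k x) = K fun l => f (x l) := by
            ext p q; rw [kronHom_tprod]; simp [K, kronMap_apply]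
          rw [h2, ← kronMap_mul _ hmk, ← kronMap_mul _ hmk]
          ext p q
          simp only [Matrix.map_apply, K, kronMap_apply, MultilinearMap.mkPiAlgebra_apply, map_prod,
            Pi.mul_apply]
          refine Finset.prod_congr rfl fun l _ => ?_
          rw [← hfu]; rfl
        rw [map_smul, mul_smul_comm, smul_mul_assoc, ← hx]
        ext p q
        simp [map_smul]
      | add p q hp hq => rw [map_add, Matrix.map_add _ (map_add σ), hp, hq, mul_add, add_mul]
    have hsum : ∑ b, σ (c b) • kronHom f r (bT b) = antisym L n r := by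
      have h1 : (∑ b, c b • kronHom f r (bT b)).map σ = antisym L n r := by
        rw [← hS]; exact map_antisym (σ : L →+* L)
      have h2 : (∑ b, c b • kronHom f r (bT b)).map σ = U * (∑ b, σ (c b) • kronHom f r (bT b)) * V := by
        rw [Finset.mul_sum, Finset.sum_mul]
        ext p q
        rw [Matrix.map_apply, Matrix.sum_apply, map_sum, Matrix.sum_apply]
        refine Finset.sum_congr rfl fun b _ => ?_
        rw [mul_smul_comm, smul_mul_assoc, ← hconj]
        simp
      rw [h2] at h1
      have hVU : V * U = 1 := mul_eq_one_comm.mp hUV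
      calc ∑ b, σ (c b) • kronHom f r (bT b)
          = V * (U * (∑ b, σ (c b) • kronHom f r (bT b)) * V) * U := by
            simp only [← mul_assoc, hVU, one_mul]
            rw [mul_assoc, hVU, mul_one]
        _ = antisym L n r := by
            rw [h1, mul_assoc, ← kron_mul_antisym, ← mul_assoc, hVU, one_mul]
    intro b
    have : E (∑ b, σ (c b) • (bT.baseChange L) b) = antisym L n r := by
      rw [map_sum]
      refine (Finset.sum_congr rfl fun b _ => ?_).trans hsum
      rw [map_smul, Module.Basis.baseChange_apply]
      congr 1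
      exact (kronBC_tmul f r 1 (bT b)).trans (one_smul _ _)
    have h' := congrArg (fun y => (bT.baseChange L).repr y b) (E.eq_symm_apply.mpr this)
    simpa only [Module.Basis.repr_sum_self, c] using h'
  have hk : ∀ b, c b ∈ Set.range (algebraMap k L) := fun b =>
    (IsGalois.mem_range_algebraMap_iff_fixed (F := k) (c b)).mpr fun σ => hfix σ b
  choose c' hc' using hk
  refine ⟨∑ b, c' b • bT b, ?_⟩
  have hEs : E (1 ⊗ₜ[k] (∑ b, c' b • bT b)) = antisym L n r := by
    refine (kronBC_tmul f r 1 _).trans ?_
    rw [one_smul, map_sum, hS]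
    refine Finset.sum_congr rfl fun b _ => ?_
    rw [map_smul, ← hc', algebraMap_smul]
  have hbc : (LinearMap.mulRight k (∑ b, c' b • bT b)).baseChange L =
      LinearMap.mulRight L ((1 : L) ⊗ₜ[k] (∑ b, c' b • bT b)) := by
    refine TensorProduct.AlgebraTensorModule.ext fun l t => ?_
    simp
  rw [← finrank_range_baseChange (L := L), hbc, finrank_range_mulRight_congr E, hEs,
    finrank_range_mulRight_antisym]

/-- The index of the `r`-th tensor power divides `n.choose r` for an algebra of degree `n`. -/
theorem dvd_choose_of_tpow_equiv (n : ℕ) (hn : Module.finrank k A = n ^ 2) (r : ℕ)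
    (D : Type w) [DivisionRing D] [Algebra k D] [FiniteDimensional k D] (m d : ℕ)
    (hd : Module.finrank k D = d ^ 2)
    (e : CSAGal.tpow k A r ≃ₐ[k] Matrix (Fin m) (Fin m) D) : d ∣ n.choose r := by
  obtain ⟨s, hs⟩ := exists_element_finrank_range n hn r
  have h1 := dvd_finrank_range_mulRight (k := k) (e s)
  rw [← finrank_range_mulRight_congr e s, hs, Fintype.card_fin, hd] at h1
  have h2 : (m * d) ^ 2 = (n ^ r) ^ 2 := by
    have := e.toLinearEquiv.finrank_eq
    rw [finrank_tpow, hn, Module.finrank_matrix, Fintype.card_fin, hd, ← pow_mul] at this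
    rw [mul_pow, ← pow_mul, mul_comm r, this]
    ring
  rw [← Nat.pow_left_injective two_ne_zero h2] at h1
  have hpos : m * d ≠ 0 := by
    intro h0
    have h3 : n ^ r = 0 := by rw [← Nat.pow_left_injective two_ne_zero h2, h0]
    have hp : 0 < n ^ 2 := hn ▸ Module.finrank_pos
    exact pow_ne_zero r (by rintro rfl; simp at hp) h3
  exact (Nat.mul_dvd_mul_iff_left (Nat.pos_of_ne_zero hpos)).mp (by rw [sq, ← mul_assoc] at h1; exact h1)

end descent

end Groth.Agent.H23Brauer
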