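import Groth.Prelude.Def_ConstAct2
import Groth.Prelude.Def_CoactBr2
import Groth.Prelude.Def_ActBC
import Groth.Prelude.Def_Red

/-!
# The torsor of a finite Galois extension under its constant group
-/

set_option autoImplicit false
set_option linter.style.haveILetI false

open CategoryTheory MonoidalCategory CartesianMonoidalCategory MonObj AlgebraicGeometry Opposite
open scoped TensorProduct

universe u

namespace Groth.Agent.H23Brauer

noncomputable local instance braidedAlgSpecOfField (R : Type u) [CommRing R] : (algSpec (CommRingCat.of R)).Braided :=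
  braidedAlgSpec

variable (k K : Type u) [Field k] [Field K] [Algebra k K]

section bc

variable (G : Type u) [Group G] [Fintype G] [DecidableEq G]

/-- Constant functions with values in `K` are the base change of those with values in `k`. -/
noncomputable def bcFun : ConstGrp.F K G →ₐ[K] K ⊗[k] ConstGrp.F k G :=
  AlgHom.ofLinearMap
    (∑ g : G, (ConstGrp.ev K g).toLinearMap.smulRight ((1 : K) ⊗ₜ[k] ConstGrp.e k g))
    (by
      simp only [LinearMap.coe_sum, Finset.sum_apply, LinearMap.smulRight_apply, AlgHom.toLinearMap_apply,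
        map_one, one_smul, ← TensorProduct.tmul_sum, ConstGrp.sum_e]
      rfl)
    (fun f f' => by
      simp only [LinearMap.coe_sum, Finset.sum_apply, LinearMap.smulRight_apply, AlgHom.toLinearMap_apply,
        map_mul, Finset.sum_mul_sum]
      refine Finset.sum_congr rfl fun g _ => ?_
      simp only [smul_mul_smul_comm, Algebra.TensorProduct.tmul_mul_tmul, one_mul, ConstGrp.e_mul_e,
        TensorProduct.tmul_ite, smul_ite, smul_zero, Finset.sum_ite_eq', Finset.mem_univ, if_true]
      simp)

theorem bcFun_e (g : G) : bcFun k K G (ConstGrp.e K g) = (1 : K) ⊗ₜ[k] ConstGrp.e k g := by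
  simp [bcFun, ConstGrp.e_apply]

/-- The base change map as a bialgebra homomorphism. -/
noncomputable def bcFunBialg : ConstGrp.F K G →ₐc[K] K ⊗[k] ConstGrp.F k G :=
  BialgHom.ofAlgHom (bcFun k K G)
    (ConstGrp.algHom_ext fun g => by
      simp [bcFun_e, ConstGrp.e_apply, apply_ite])
    (ConstGrp.algHom_ext fun g => by
      simp only [AlgHom.comp_apply, Bialgebra.comulAlgHom_apply, ConstGrp.comul_e, map_sum,
        Algebra.TensorProduct.map_tmul, bcFun_e, TensorProduct.comul_tmul, CommSemiring.comul_apply,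
        TensorProduct.tmul_sum]
      rfl)

theorem bcFun_bijective : Function.Bijective (bcFun k K G) := by
  let b := ConstGrp.basis K G
  let b' := Algebra.TensorProduct.basis K (ConstGrp.basis k G)
  have h : (bcFun k K G).toLinearMap = (b.equiv b' (Equiv.refl G)).toLinearMap := b.ext fun g => by
    have e1 : b g = ConstGrp.e K g := Pi.basisFun_apply K G g
    have e2 : ConstGrp.basis k G g = ConstGrp.e k g := Pi.basisFun_apply k G g
    rw [LinearEquiv.coe_coe, Module.Basis.equiv_apply, Equiv.refl_apply, AlgHom.toLinearMap_apply, e1, bcFun_e,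
      Algebra.TensorProduct.basis_apply, e2]
  have h' : ⇑(bcFun k K G) = ⇑(b.equiv b' (Equiv.refl G)) := funext fun x => LinearMap.congr_fun h x
  rw [h']
  exact LinearEquiv.bijective _

/-- The base change of the constant group is the constant group. -/
noncomputable def bcHom :
    Red.bc (Spec.map (CommRingCat.ofHom (algebraMap k K))) (ConstAct.GR k G) ⟶ ConstAct.GR K G :=
  (CoactBr.bcIso k K (ConstGrp.F k G)).hom ≫ CoactBr.pt (bcFun k K G)

instance isMonHom_bcHom : IsMonHom (bcHom k K G) := by
  have h1 : IsMonHom (C := Over (Spec (CommRingCat.of K)))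
      (M := Red.bc (Spec.map (CommRingCat.ofHom (algebraMap k K))) (ConstAct.GR k G))
      (CoactBr.bcIso k K (ConstGrp.F k G)).hom := CoactBr.bcIso_isMonHom k K (ConstGrp.F k G)
  have h2 : IsMonHom (CoactBr.pt (bcFun k K G)) :=
    ((bialgSpec (CommRingCat.of K)).map (CommBialgCat.ofHom (bcFunBialg k K G)).op).isMonHom_hom
  exact @instIsMonHomComp _ _ _ _ _ _ _ _ _ _ _ h1 h2

theorem isIso_pt_of_bijective {R B C : Type u} [CommRing R] [CommRing B] [CommRing C] [Algebra R B] [Algebra R C]
    (φ : B →ₐ[R] C) (h : Function.Bijective φ) : IsIso (CoactBr.pt φ) := by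
  let e := AlgEquiv.ofBijective φ h
  refine ⟨CoactBr.pt (e.symm : C →ₐ[R] B), ?_, ?_⟩
  · rw [← CoactBr.pt_comp, show φ.comp (e.symm : C →ₐ[R] B) = AlgHom.id R C from
      AlgHom.ext fun x => e.apply_symm_apply x, CoactBr.pt_id]
  · rw [← CoactBr.pt_comp, show (e.symm : C →ₐ[R] B).comp φ = AlgHom.id R B from
      AlgHom.ext fun x => e.symm_apply_apply x, CoactBr.pt_id]

instance isIso_bcHom : IsIso (bcHom k K G) := by
  haveI := isIso_pt_of_bijective (bcFun k K G) (bcFun_bijective k K G)
  exact IsIso.comp_isIso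

end bc

section galois

variable (F : Type u) [Field F] [Algebra K F] [FiniteDimensional K F] [IsGalois K F] [DecidableEq (F ≃ₐ[K] F)]

/-- A finite Galois extension is a pseudo-torsor under its constant group. -/
theorem isPseudoTorsorSch_gaction : NonAbH1.IsPseudoTorsorSch (ConstAct.gaction K F (F ≃ₐ[K] F)) := by
  classical
  let G := F ≃ₐ[K] F
  let A := ConstGrp.F K G
  let T := A ⊗[K] F
  let iL : A →ₐ[K] T := Algebra.TensorProduct.includeLeft
  let iR : F →ₐ[K] T := Algebra.TensorProduct.includeRight
  let δ : CoactBr.sp K T ⟶ ConstAct.GR K G ⊗ ConstAct.X K F := lift (CoactBr.pt iL) (CoactBr.pt iR)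
  let μA : ConstAct.GR K G ⊗ ConstAct.X K F ⟶ CoactBr.sp K T := Functor.LaxMonoidal.μ (algSpec (CommRingCat.of K)) (op (.of K A)) (op (.of K F))
  let μF : ConstAct.X K F ⊗ ConstAct.X K F ⟶ CoactBr.sp K (F ⊗[K] F) := Functor.LaxMonoidal.μ (algSpec (CommRingCat.of K)) (op (.of K F)) (op (.of K F))
  letI : HopfRep.Comod K A F := ConstAct.comod K F G
  haveI : GLin.IsCoactAlg K A F := ConstAct.isCoactAlg K F G
  let x' : F →ₐ[K] T := (Algebra.TensorProduct.lift iR (iL.comp (HopfAlgebra.antipodeAlgHom K A))
    fun _ _ => .all _ _).comp (GLin.coactAlgHom K A F)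
  let φ : F ⊗[K] F →ₐ[K] T := Algebra.TensorProduct.lift x' iR fun _ _ => .all _ _
  have hx' : ∀ a : F, x' a = ∑ g : G, (ConstGrp.e K g⁻¹) ⊗ₜ[K] (g • a) := by
    intro a
    show (Algebra.TensorProduct.lift iR (iL.comp (HopfAlgebra.antipodeAlgHom K A)) fun _ _ => .all _ _)
      (ConstAct.coactLin K F G a) = _
    rw [ConstAct.coactLin_apply, map_sum]
    refine Finset.sum_congr rfl fun g _ => ?_
    show ((1 : A) ⊗ₜ[K] (g • a)) * (HopfAlgebra.antipode K (ConstGrp.e K g) ⊗ₜ[K] (1 : F)) = _
    rw [ConstGrp.antipode_e, Algebra.TensorProduct.tmul_mul_tmul, _root_.one_mul, _root_.mul_one]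
  have hφ : Function.Bijective φ := by
    have hd : Module.finrank K (F ⊗[K] F) = Module.finrank K T := by
      rw [Module.finrank_tensorProduct, Module.finrank_tensorProduct,
        Module.finrank_eq_card_basis (ConstGrp.basis K G), ← Nat.card_eq_fintype_card,
        IsGalois.card_aut_eq_finrank]
    suffices hs : Function.Surjective φ from
      ⟨(LinearMap.injective_iff_surjective_of_finrank_eq_finrank hd (f := φ.toLinearMap)).mpr hs, hs⟩
    -- transport to functions on the group
    let χ : T →ₐ[K] (G → F) := Algebra.TensorProduct.lift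
      (AlgHom.pi fun g => (Algebra.ofId K F).comp (ConstGrp.ev K g))
      (AlgHom.pi fun _ => AlgHom.id K F) fun _ _ => .all _ _
    have hχt : ∀ (f : A) (c : F) (g : G), χ (f ⊗ₜ[K] c) g = algebraMap K F (f g) * c := fun f c g => rfl
    have hχ : Function.Injective χ := by
      have hbij : ∀ y : T, y = ∑ g : G, ConstGrp.e K g ⊗ₜ[K] χ y g := by
        intro y
        induction y using TensorProduct.induction_on with
        | zero => simp
        | tmul f c =>
          conv_lhs => rw [ConstGrp.eq_sum_smul_e f, TensorProduct.sum_tmul]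
          refine Finset.sum_congr rfl fun g _ => ?_
          rw [TensorProduct.smul_tmul]
          simp [hχt, Algebra.smul_def]
        | add y z hy hz =>
          conv_lhs => rw [hy, hz]
          simp only [map_add, Pi.add_apply, TensorProduct.tmul_add, Finset.sum_add_distrib]
      intro y z h
      rw [hbij y, hbij z, h]
    intro t
    suffices h : ∀ v : G → F, ∃ w, χ (φ w) = v by
      obtain ⟨w, hw⟩ := h (χ t)
      exact ⟨w, hχ hw⟩
    let V : Submodule F (G → F) :=
      { carrier := Set.range fun w => χ (φ w)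
        zero_mem' := ⟨0, by simp⟩
        add_mem' := fun {a b} ⟨wa, ha⟩ ⟨wb, hb⟩ => ⟨wa + wb, by simp [← ha, ← hb]⟩
        smul_mem' := fun c a ⟨wa, ha⟩ => ⟨((1 : F) ⊗ₜ[K] c) * wa, by
          subst ha
          funext g
          have h1 : φ ((1 : F) ⊗ₜ[K] c) = (1 : A) ⊗ₜ[K] c := by
            show x' 1 * ((1 : A) ⊗ₜ[K] c) = _
            rw [map_one x', _root_.one_mul]
          show χ (φ (((1 : F) ⊗ₜ[K] c) * wa)) g = c * χ (φ wa) g
          rw [map_mul, map_mul, h1, Pi.mul_apply, hχt]
          show algebraMap K F 1 * c * _ = _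
          rw [map_one (algebraMap K F), _root_.one_mul]⟩ }
    have hv : ∀ a : F, (fun g : G => g⁻¹ • a) ∈ V := fun a => ⟨a ⊗ₜ 1, by
      funext g
      show χ (x' a * ((1 : A) ⊗ₜ[K] (1 : F))) g = g⁻¹ • a
      rw [← Algebra.TensorProduct.one_def, _root_.mul_one, hx', map_sum, Finset.sum_apply, Finset.sum_eq_single g⁻¹]
      · rw [hχt, inv_inv g, ConstGrp.e_apply_self, map_one (algebraMap K F), _root_.one_mul]
      · intro b _ hb
        rw [hχt, ConstGrp.e_apply_of_ne (fun e => hb ((inv_inv b).symm.trans (congrArg (·⁻¹) e.symm))), map_zero, zero_mul]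
      · intro h; exact absurd (Finset.mem_univ _) h⟩
    suffices hV : V = ⊤ from fun v => (hV.symm ▸ Submodule.mem_top : v ∈ V)
    by_contra hne
    obtain ⟨f, hf0, hfV⟩ := V.exists_le_ker_of_lt_top (lt_top_iff_ne_top.mpr hne)
    apply hf0
    have hli := Fintype.linearIndependent_iff.mp
      ((linearIndependent_toLinearMap K F F).comp (fun g : G => ((g⁻¹ : G) : F →ₐ[K] F))
        fun g h e => inv_injective (AlgEquiv.coe_toAlgHom_injective e))
      (fun g => f (Pi.single g 1)) (LinearMap.ext fun a => by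
        have := hfV (hv a)
        rw [LinearMap.mem_ker, ← Finset.univ_sum_single (fun g : G => g⁻¹ • a), map_sum] at this
        simp only [LinearMap.coe_sum, Finset.sum_apply, LinearMap.smul_apply, LinearMap.zero_apply]
        rw [← this]
        refine Finset.sum_congr rfl fun g _ => ?_
        show f (Pi.single g 1) • (g⁻¹ • a) = f (Pi.single g (g⁻¹ • a))
        rw [smul_eq_mul, mul_comm, ← smul_eq_mul, ← map_smul, ← Pi.single_smul', smul_eq_mul, _root_.mul_one])
    exact (Pi.basisFun F G).ext fun g => by simpa using hli g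
  have hδ : δ ≫ μA = 𝟙 _ := by
    show lift (CoactBr.pt iL) (CoactBr.pt iR) ≫ μA = _
    refine (CoactBr.lift_pt_pt iL iR).trans ?_
    rw [show Algebra.TensorProduct.lift iL iR (fun _ _ => .all _ _) = AlgHom.id K T from
      Algebra.TensorProduct.ext' fun a b => by
        show (a ⊗ₜ[K] (1 : F)) * ((1 : A) ⊗ₜ[K] b) = _
        rw [Algebra.TensorProduct.tmul_mul_tmul, _root_.one_mul, _root_.mul_one]
        rfl, CoactBr.pt_id]
  have hcomp : δ ≫ lift (ConstAct.gaction K F G).act (snd _ _) ≫ μF = CoactBr.pt φ := by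
    rw [← Category.assoc, comp_lift, lift_snd, show δ ≫ (ConstAct.gaction K F G).act = CoactBr.pt x' from
      CoactBr.lift_pt_action_act iL iR]
    exact CoactBr.lift_pt_pt x' iR
  haveI : IsIso μA := (Functor.Monoidal.μIso (algSpec (CommRingCat.of K)) _ _).isIso_hom
  haveI : IsIso δ := by
    have : δ = inv μA := (IsIso.eq_inv_of_inv_hom_id hδ)
    rw [this]; infer_instance
  haveI : IsIso μF := (Functor.Monoidal.μIso (algSpec (CommRingCat.of K)) _ _).isIso_hom
  haveI : IsIso (δ ≫ lift (ConstAct.gaction K F G).act (snd _ _) ≫ μF) := by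
    rw [hcomp]; exact isIso_pt_of_bijective φ hφ
  haveI := IsIso.of_isIso_comp_left δ (lift (ConstAct.gaction K F G).act (snd _ _) ≫ μF)
  exact IsIso.of_isIso_comp_right (lift (ConstAct.gaction K F G).act (snd _ _)) μF

theorem isLocallyTrivialFor_galois :
    NonAbH1.IsLocallyTrivialFor Scheme.etalePrecoverage (ConstAct.X K F) := by
  let p : Spec (CommRingCat.of F) ⟶ Spec (CommRingCat.of K) := Spec.map (CommRingCat.ofHom (algebraMap K F))
  refine ⟨Presieve.singleton p, ?_, ?_⟩
  · refine (Scheme.singleton_mem_precoverage_iff (P := @Etale) p).2 ⟨fun x => ?_, ?_⟩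
    · exact ⟨Nonempty.some inferInstance, Subsingleton.elim _ _⟩
    · rw [HasRingHomProperty.Spec_iff (P := @Etale)]
      haveI : Algebra.FormallyEtale K F := Algebra.FormallyEtale.of_isSeparable K F
      haveI : Algebra.FinitePresentation K F := Algebra.FinitePresentation.of_finiteType.mp inferInstance
      simpa [RingHom.etale_algebraMap] using (⟨inferInstance, inferInstance⟩ : Algebra.Etale K F)
  · rintro S' f ⟨⟩
    exact ⟨𝟙 _, Category.id_comp _⟩

/-- The torsor over `K` of a finite Galois extension under the constant `k`-group of its automorphisms. -/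
noncomputable def galoisTorsor : NonAbH1.TorsorSch
    (Red.bc (Spec.map (CommRingCat.ofHom (algebraMap k K))) (ConstAct.GR k (F ≃ₐ[K] F))) Scheme.etalePrecoverage where
  X := ConstAct.X K F
  act := (ConstAct.gaction K F (F ≃ₐ[K] F)).restrict (bcHom k K (F ≃ₐ[K] F))
  isTorsor := by
    refine ⟨?_, isLocallyTrivialFor_galois K F⟩
    haveI : IsIso (lift (ConstAct.gaction K F (F ≃ₐ[K] F)).act (snd _ _)) := isPseudoTorsorSch_gaction K F
    haveI : IsIso (bcHom k K (F ≃ₐ[K] F) ▷ ConstAct.X K F) := inferInstance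
    show IsIso (lift _ _)
    rw [show lift ((ConstAct.gaction K F (F ≃ₐ[K] F)).restrict (bcHom k K (F ≃ₐ[K] F))).act (snd _ _) =
      (bcHom k K (F ≃ₐ[K] F) ▷ ConstAct.X K F) ≫ lift (ConstAct.gaction K F (F ≃ₐ[K] F)).act (snd _ _) by simp]
    infer_instance

end galois

theorem isFinite_GR (G : Type u) [Group G] [Fintype G] [DecidableEq G] :
    IsFinite (ConstAct.GR k G).hom :=
  (IsFinite.SpecMap_iff _).mpr (RingHom.finite_algebraMap.mpr inferInstance)

end Groth.Agent.H23Brauer
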