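import Groth.Agent.H23Brauer.GaloisCocycle
import Groth.Agent.H29Ci.Zero
import Groth.Agent.H29Ci.Ext

/-!
# Splitting a cocycle with constant values through a field of small transcendence degree
-/

set_option autoImplicit false
set_option linter.style.haveILetI false
set_option linter.unusedSectionVars false

open scoped TensorProduct

universe u v

namespace Groth.Agent.H23Brauer

/-- Fields algebraic over a field of transcendence degree at most one over an algebraically closed field. -/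
theorem isCr_one_of_trdeg_le_one {k L₀ E₀ : Type u} [Field k] [IsAlgClosed k] [Field L₀] [Algebra k L₀] [Field E₀]
    [Algebra L₀ E₀] [Algebra.IsAlgebraic L₀ E₀] (h : Algebra.trdeg k L₀ ≤ 1) : Curves.IsCr E₀ 1 := by
  obtain ⟨s, hs⟩ := exists_isTranscendenceBasis k L₀
  have hc : Cardinal.mk s ≤ 1 := hs.cardinalMk_eq_trdeg.trans_le h
  haveI : Finite s := Cardinal.lt_aleph0_iff_finite.mp (hc.trans_lt Cardinal.one_lt_aleph0)
  haveI := Fintype.ofFinite s
  have hn : Fintype.card s ≤ 1 := by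
    rw [Cardinal.mk_fintype] at hc
    exact_mod_cast hc
  have h0 := H29Ci.isCi_of_transcendenceBasis (H29Ci.isCi_of_isAlgClosed k) _ hs
  exact H29Ci.isCr_of_isCi (H29Ci.isCi_of_algebraic E₀ (H29Ci.isCi_mono (by simpa using hn) h0))

/-- The splitting criterion: a cocycle with constant values, pulled back to a group acting on a field of type C₁. -/
theorem splits_of_fixing {k L₀ E M Ω F : Type u} [Field k] [IsAlgClosed k] [CharZero k] [Field L₀] [Field E] [Field M]
    [Field Ω] [Field F] [IsAlgClosed Ω] [CharZero M] [CharZero L₀]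
    [Algebra k L₀] (htd : Algebra.trdeg k L₀ ≤ 1)
    [Algebra L₀ M] [Algebra L₀ Ω] [Algebra M Ω] [IsScalarTower L₀ M Ω] [Algebra E M] [Algebra E Ω]
    [IsScalarTower E M Ω] [Algebra.IsAlgebraic M Ω] [Algebra k F] [Algebra E F] [FiniteDimensional E F] [IsGalois E F]
    (hkF : ∀ (σ : F ≃ₐ[E] F) (a : k), σ (algebraMap k F a) = algebraMap k F a)
    {D : Type v} [Ring D] [Algebra E D] [Algebra.IsCentral E D] [IsSimpleRing D] [FiniteDimensional E D]
    {n : ℕ} [NeZero n] (ρ : D →ₐ[E] Matrix (Fin n) (Fin n) F) (hn : Module.finrank E D = n * n)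
    (P : (F ≃ₐ[E] F) → Matrix (Fin n) (Fin n) F) (hP : ∀ σ, IsUnit (P σ).det)
    (hconj : ∀ σ x, ρ x * P σ = P σ * (ρ x).map σ)
    (c : (F ≃ₐ[E] F) → (F ≃ₐ[E] F) → k) (hc : ∀ σ τ, P σ * (P τ).map σ = algebraMap k F (c σ τ) • P (σ * τ))
    (emb : F →ₐ[E] Ω) (hk : ∀ a : k, emb (algebraMap k F a) = algebraMap L₀ Ω (algebraMap k L₀ a))
    (N : IntermediateField L₀ Ω) [FiniteDimensional L₀ N] [IsGalois L₀ N]
    (hfix : ∀ σ : Ω ≃ₐ[M] Ω, (∀ x ∈ N, σ x = x) → ∀ y, σ (emb y) = emb y) :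
    Curves.Splits E D M := by
  classical
  haveI : Nonempty (Fin n) := Fin.pos_iff_nonempty.mp (NeZero.pos n)
  haveI : IsAlgClosure M Ω := ⟨inferInstance, inferInstance⟩
  haveI : IsGalois M Ω := inferInstance
  letI : Algebra F Ω := emb.toRingHom.toAlgebra
  haveI : IsScalarTower E F Ω := IsScalarTower.of_algebraMap_eq fun x => (emb.commutes x).symm
  let res : (Ω ≃ₐ[M] Ω) →* (Ω ≃ₐ[L₀] Ω) :=
    { toFun := fun σ => σ.restrictScalars L₀, map_one' := rfl, map_mul' := fun _ _ => rfl }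
  let resE : (Ω ≃ₐ[M] Ω) →* (Ω ≃ₐ[E] Ω) :=
    { toFun := fun σ => σ.restrictScalars E, map_one' := rfl, map_mul' := fun _ _ => rfl }
  let r : (Ω ≃ₐ[M] Ω) →* (N ≃ₐ[L₀] N) := (AlgEquiv.restrictNormalHom N).comp res
  let ψ0 : (Ω ≃ₐ[M] Ω) →* (F ≃ₐ[E] F) := (AlgEquiv.restrictNormalHom F).comp resE
  have hr : ∀ σ (x : N), (r σ x : Ω) = σ x := fun σ x =>
    AlgEquiv.restrictNormal_commutes (σ.restrictScalars L₀) N x
  have hψ0 : ∀ σ y, emb (ψ0 σ y) = σ (emb y) := fun σ y =>
    AlgEquiv.restrictNormal_commutes (σ.restrictScalars E) F y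
  let E₀ := IntermediateField.fixedField r.range
  have hE₀ : E₀.fixingSubgroup = r.range := IntermediateField.fixingSubgroup_fixedField _
  let r' : (Ω ≃ₐ[M] Ω) →* (N ≃ₐ[E₀] N) := (IntermediateField.fixingSubgroupEquiv E₀).toMonoidHom.comp
    (r.codRestrict E₀.fixingSubgroup fun σ => hE₀ ▸ ⟨σ, rfl⟩)
  have hr' : ∀ σ (x : N), (r' σ x : Ω) = σ x := fun σ x => hr σ x
  have hsurj : ∀ h, ∃ σ, r' σ = h := by
    intro h
    obtain ⟨σ, hσ⟩ : ((IntermediateField.fixingSubgroupEquiv E₀).symm h : N ≃ₐ[L₀] N) ∈ r.range :=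
      hE₀ ▸ ((IntermediateField.fixingSubgroupEquiv E₀).symm h).2
    refine ⟨σ, (IntermediateField.fixingSubgroupEquiv E₀).symm.injective ?_⟩
    exact (MulEquiv.symm_apply_apply _ _).trans (Subtype.ext hσ)
  choose s hs using hsurj
  have hker : ∀ σ, r' σ = 1 → ψ0 σ = 1 := by
    intro σ h
    refine AlgEquiv.ext fun y => emb.injective ?_
    show emb (ψ0 σ y) = emb y
    rw [hψ0]
    exact hfix σ (fun x hx => by
      have := hr' σ ⟨x, hx⟩
      rw [h] at this
      exact this.symm) y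
  have hψ : ∀ σ, ψ0 (s (r' σ)) = ψ0 σ := by
    intro σ
    have := hker ((s (r' σ))⁻¹ * σ) (by rw [map_mul, map_inv, hs, inv_mul_cancel])
    rwa [map_mul, map_inv, inv_mul_eq_one] at this
  let ψ : (N ≃ₐ[E₀] N) → (F ≃ₐ[E] F) := fun h => ψ0 (s h)
  have hψm : ∀ g h, ψ (g * h) = ψ g * ψ h := by
    intro g h
    show ψ0 (s (g * h)) = _
    rw [← map_mul]
    conv_lhs => rw [← hs g, ← hs h, ← map_mul]
    exact hψ _
  have hc0 : ∀ σ τ, c σ τ ≠ 0 := by
    intro σ τ h
    have h1 := congrArg Matrix.det (hc σ τ)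
    rw [h, map_zero, zero_smul, Matrix.det_mul, Matrix.det_zero] at h1
    refine ((hP σ).mul ?_).ne_zero h1
    show IsUnit ((σ : F →+* F).mapMatrix (P τ)).det
    rw [← RingHom.map_det]
    exact (hP τ).map _
  have hcocycle : ∀ a b d, c a b * c (a * b) d = c b d * c a (b * d) := by
    intro a b d
    let S : Matrix (Fin n) (Fin n) F →+* Matrix (Fin n) (Fin n) F := (a : F →+* F).mapMatrix
    have hS : ∀ (x : k) (Y : Matrix (Fin n) (Fin n) F), S (algebraMap k F x • Y) = algebraMap k F x • S Y := by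
      intro x Y
      refine Matrix.ext fun i j => ?_
      show a (algebraMap k F x * Y i j) = algebraMap k F x * a (Y i j)
      rw [map_mul, hkF]
    have e1 : P a * S (P b * (P d).map b) =
        (algebraMap k F (c b d) * algebraMap k F (c a (b * d))) • P (a * (b * d)) := by
      rw [hc b d, hS, Matrix.mul_smul, show P a * S (P (b * d)) = _ from hc a (b * d), smul_smul]
    have e2 : P a * S (P b * (P d).map b) =
        (algebraMap k F (c a b) * algebraMap k F (c (a * b) d)) • P (a * (b * d)) := by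
      rw [map_mul, ← mul_assoc, show P a * S (P b) = _ from hc a b,
        show S ((P d).map b) = (P d).map ⇑(a * b) from Matrix.map_map, Matrix.smul_mul, hc, smul_smul, mul_assoc a]
    have e := e2.symm.trans e1
    rw [← sub_eq_zero, ← sub_smul, smul_eq_zero, sub_eq_zero, ← map_mul, ← map_mul] at e
    rcases e with e | e
    · exact (algebraMap k F).injective e
    · exact absurd (congrArg Matrix.det e) (by
        rw [Matrix.det_zero]; exact (hP _).ne_zero)
  have hE₀C : Curves.IsCr E₀ 1 := isCr_one_of_trdeg_le_one (k := k) (L₀ := L₀) htd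
  obtain ⟨u, hu0, hu⟩ := exists_coboundary (E := E₀) (P := N) hE₀C
    (fun g h => algebraMap L₀ E₀ (algebraMap k L₀ (c (ψ g) (ψ h))))
    (fun g h => by simpa using hc0 (ψ g) (ψ h))
    (fun g h l => by simp only [← map_mul, hψm, hcocycle])
  -- the finite Galois extension of `M` carrying all the data
  let T : Finset Ω := (Finset.univ.image fun i => emb (Module.finBasis E F i)) ∪
    Finset.univ.image fun i => ((Module.finBasis L₀ N i : N) : Ω)
  let F0 := IntermediateField.adjoin M (T : Set Ω)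
  haveI : FiniteDimensional M F0 :=
    IntermediateField.finiteDimensional_adjoin fun z _ => Algebra.IsIntegral.isIntegral z
  let F' := IntermediateField.normalClosure M F0 Ω
  haveI : IsGalois M F' := inferInstance
  have hT : ∀ z ∈ T, z ∈ F' := fun z hz =>
    IntermediateField.le_normalClosure F0 (IntermediateField.subset_adjoin M _ hz)
  have hembF : ∀ y, emb y ∈ F' := fun y => by
    rw [← (Module.finBasis E F).sum_repr y, map_sum]
    refine sum_mem fun i _ => ?_
    rw [map_smul, Algebra.smul_def, IsScalarTower.algebraMap_apply E M Ω]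
    exact mul_mem (F'.algebraMap_mem _)
      (hT _ (Finset.mem_union_left _ (Finset.mem_image_of_mem _ (Finset.mem_univ i))))
  have hN : ∀ x : N, (x : Ω) ∈ F' := fun x => by
    rw [← (Module.finBasis L₀ N).sum_repr x, AddSubmonoidClass.coe_finsetSum]
    refine sum_mem fun i _ => ?_
    rw [IntermediateField.coe_smul, Algebra.smul_def, IsScalarTower.algebraMap_apply L₀ M Ω]
    exact mul_mem (F'.algebraMap_mem _)
      (hT _ (Finset.mem_union_right _ (Finset.mem_image_of_mem _ (Finset.mem_univ i))))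
  let embF : F →ₐ[E] F' := emb.codRestrict (F'.restrictScalars E).toSubalgebra hembF
  let jN : N →+* F' := (algebraMap N Ω).codRestrict F' hN
  let hat : (F' ≃ₐ[M] F') → (Ω ≃ₐ[M] Ω) := fun σ => σ.liftNormal Ω
  have hhat : ∀ σ (x : F'), hat σ x = (σ x : Ω) := fun σ x => AlgEquiv.liftNormal_commutes σ Ω x
  have hagree : ∀ σ τ, r' (hat (σ * τ)) = r' (hat σ) * r' (hat τ) ∧ ψ0 (hat (σ * τ)) = ψ0 (hat σ) * ψ0 (hat τ) := by
    intro σ τ
    have h : ∀ z ∈ F', hat (σ * τ) z = (hat σ * hat τ) z := by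
      intro z hz
      show hat (σ * τ) (⟨z, hz⟩ : F') = hat σ (hat τ (⟨z, hz⟩ : F'))
      rw [hhat, hhat, hhat, AlgEquiv.mul_apply]
    constructor
    · rw [← map_mul]
      refine AlgEquiv.ext fun x => Subtype.ext ?_
      rw [hr', hr']
      exact h _ (hN x)
    · rw [← map_mul]
      refine AlgEquiv.ext fun y => emb.injective ?_
      show emb (ψ0 _ y) = emb (ψ0 _ y)
      rw [hψ0, hψ0]
      exact h _ (hembF y)
  let Q : (F' ≃ₐ[M] F') → Matrix (Fin n) (Fin n) F' := fun σ =>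
    (jN (u (r' (hat σ))))⁻¹ • (P (ψ0 (hat σ))).map embF
  refine splits_of_cocycle (embF.mapMatrix.comp ρ) hn Q (fun σ => ?_) (fun σ τ => ?_) (fun σ x => ?_)
  · simp only [Q, Matrix.det_smul]
    refine (IsUnit.pow _ ((isUnit_iff_ne_zero.mpr (inv_ne_zero ((map_ne_zero_iff _ jN.injective).mpr (hu0 _)))))).mul ?_
    show IsUnit ((embF : F →+* F').mapMatrix (P _)).det
    rw [← RingHom.map_det]
    exact (hP _).map _
  · obtain ⟨hrm, hψ0m⟩ := hagree σ τ
    set a := r' (hat σ) with ha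
    set b := r' (hat τ) with hb
    have hA : ψ a = ψ0 (hat σ) := hψ _
    have hB : ψ b = ψ0 (hat τ) := hψ _
    have hσu : σ (jN (u b)) = jN (a (u b)) := Subtype.ext (by
      rw [← hhat]
      exact (hr' (hat σ) (u b)).symm)
    have hσP : ∀ Y : Matrix (Fin n) (Fin n) F,
        (Y.map embF).map σ = (Y.map (ψ0 (hat σ))).map embF := fun Y => by
      refine Matrix.ext fun i j => Subtype.ext ?_
      show ((σ (embF (Y i j)) : F') : Ω) = emb (ψ0 (hat σ) (Y i j))
      rw [hψ0, ← hhat]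
      rfl
    have hcc : embF (algebraMap k F (c (ψ a) (ψ b))) =
        jN (algebraMap E₀ N (algebraMap L₀ E₀ (algebraMap k L₀ (c (ψ a) (ψ b))))) := Subtype.ext (hk _)
    have hmap : (Q τ).map σ = (jN (a (u b)))⁻¹ • ((P (ψ0 (hat τ))).map (ψ0 (hat σ))).map embF := by
      rw [← hσP, ← hσu, ← map_inv₀]
      exact Matrix.ext fun i j => map_mul σ _ _
    let Φ : Matrix (Fin n) (Fin n) F →+* Matrix (Fin n) (Fin n) F' := (embF : F →+* F').mapMatrix
    show (jN (u (r' (hat (σ * τ)))))⁻¹ • Φ (P (ψ0 (hat (σ * τ)))) =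
      ((jN (u a))⁻¹ • Φ (P (ψ0 (hat σ)))) * (Q τ).map σ
    rw [hmap, hrm, hψ0m, Matrix.smul_mul, Matrix.mul_smul, smul_smul]
    change _ = _ • (Φ (P (ψ0 (hat σ))) * Φ ((P (ψ0 (hat τ))).map (ψ0 (hat σ))))
    rw [← map_mul Φ, hc]
    have hΦ : ∀ (x : F) (Y : Matrix (Fin n) (Fin n) F), Φ (x • Y) = embF x • Φ Y := fun x Y =>
      Matrix.ext fun i j => map_mul embF _ _
    rw [hΦ, smul_smul, ← hA, ← hB, hcc]
    congr 1
    rw [← mul_inv, ← map_mul jN, ← hu a b, map_mul jN, mul_inv, mul_comm _⁻¹ (_⁻¹), mul_assoc, inv_mul_cancel₀, mul_one]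
    exact (map_ne_zero_iff _ jN.injective).mpr ((map_ne_zero_iff _ (algebraMap E₀ N).injective).mpr
      (by simpa using hc0 _ _))
  · let Φ : Matrix (Fin n) (Fin n) F →+* Matrix (Fin n) (Fin n) F' := (embF : F →+* F').mapMatrix
    show Φ (ρ x) * Q σ = Q σ * (Φ (ρ x)).map σ
    have h : (Φ (ρ x)).map σ = Φ ((ρ x).map (ψ0 (hat σ))) := Matrix.ext fun i j => Subtype.ext (by
      show ((σ (embF (ρ x i j)) : F') : Ω) = emb (ψ0 (hat σ) (ρ x i j))
      rw [hψ0, ← hhat]
      rfl)
    rw [h]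
    show Φ (ρ x) * (_ • Φ (P _)) = (_ • Φ (P _)) * Φ _
    rw [Matrix.mul_smul, Matrix.smul_mul, ← map_mul, ← map_mul, hconj]

end Groth.Agent.H23Brauer
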