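import Mathlib
import Groth.Prelude.Def_GSzCSA
import Groth.Agent.H23Brauer.Antisym
import Groth.Agent.H29CSA.Brauer
import Groth.Agent.H29CSA.MatrixUnique
import Groth.Agent.H29CSA.Subfield

/-!
# Index and period
-/

set_option autoImplicit false

open scoped TensorProduct

universe u v w w'

namespace Groth.Agent.H23Brauer

open Groth.Agent.H29CSA

variable {k : Type u} [Field k]

theorem central_of_matrix {A : Type v} [Ring A] [Algebra k A] [Algebra.IsCentral k A] {D : Type w}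
    [Ring D] [Algebra k D] {m : ℕ} [NeZero m] (e : A ≃ₐ[k] Matrix (Fin m) (Fin m) D) :
    Algebra.IsCentral k D := by
  refine ⟨fun d hd => ?_⟩
  obtain ⟨c, hc⟩ := (Algebra.IsCentral.mem_center_iff k).mp
    (show e.symm (Matrix.scalar (Fin m) d) ∈ Subalgebra.center k A from
      Subalgebra.mem_center_iff.mpr fun a => e.injective (by
        rw [map_mul, map_mul, AlgEquiv.apply_symm_apply]
        ext i j
        simp [Matrix.scalar, Subalgebra.mem_center_iff.mp hd (e a i j)]))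
  refine Algebra.mem_bot.mpr ⟨c, ?_⟩
  have h := congrArg e hc
  rw [AlgEquiv.apply_symm_apply, AlgEquiv.commutes] at h
  simpa [Matrix.algebraMap_matrix_apply] using (congrFun (congrFun h 0) 0).symm

theorem finrank_eq_of_matrix {D : Type v} [DivisionRing D] [Algebra k D] [FiniteDimensional k D]
    {D' : Type w} [DivisionRing D'] [Algebra k D'] [FiniteDimensional k D'] {n m : ℕ} (hn : n ≠ 0)
    (hm : m ≠ 0) (e : Matrix (Fin n) (Fin n) D ≃ₐ[k] Matrix (Fin m) (Fin m) D') :
    Module.finrank k D = Module.finrank k D' := by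
  obtain ⟨φ⟩ := nonempty_algEquiv_of_matrix (k := k) D D' n m hn hm e
  exact φ.toLinearEquiv.finrank_eq

theorem matrix_csa (D : Type v) [Ring D] [Algebra k D] [IsSimpleRing D] [Algebra.IsCentral k D]
    [FiniteDimensional k D] (m : ℕ) (hm : m ≠ 0) :
    Algebra.IsCentral k (Matrix (Fin m) (Fin m) D) ∧ IsSimpleRing (Matrix (Fin m) (Fin m) D) ∧
      FiniteDimensional k (Matrix (Fin m) (Fin m) D) :=
  csa_of_splits _ _ (splits_matrix D (SeparableClosure k) m hm (splits_separableClosure D))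

theorem equiv_csa {A : Type v} [Ring A] [Algebra k A] [IsSimpleRing A] [Algebra.IsCentral k A]
    [FiniteDimensional k A] {B : Type w} [Ring B] [Algebra k B] (e : A ≃ₐ[k] B) :
    Algebra.IsCentral k B ∧ IsSimpleRing B ∧ FiniteDimensional k B :=
  csa_of_splits _ _ (splits_congr e (splits_separableClosure A))

/-- Matrices of matrices. -/
theorem nonempty_matrix_matrix (D : Type v) [Ring D] [Algebra k D] (n m : ℕ) :
    Nonempty (Matrix (Fin n) (Fin n) (Matrix (Fin m) (Fin m) D) ≃ₐ[k]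
      Matrix (Fin (n * m)) (Fin (n * m)) D) :=
  ⟨(Matrix.compAlgEquiv (Fin n) (Fin m) D k).trans (Matrix.reindexAlgEquiv k D finProdFinEquiv)⟩

variable {A : Type v} [Ring A] [Algebra k A] [IsSimpleRing A] [Algebra.IsCentral k A]
  [FiniteDimensional k A]

theorem isIndex_elim {d : ℕ} (h : CSAGal.IsIndex k A d) :
    0 < d ∧ ∃ (m : ℕ) (_ : NeZero m) (D : Type v) (_ : DivisionRing D) (_ : Algebra k D),
      Algebra.IsCentral k D ∧ FiniteDimensional k D ∧ Module.finrank k D = d ^ 2 ∧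
        Nonempty (A ≃ₐ[k] Matrix (Fin m) (Fin m) D) := by
  obtain ⟨hd, m, D, _, _, hm, hfr, ⟨e⟩⟩ := h
  haveI : NeZero m := ⟨hm.ne'⟩
  exact ⟨hd, m, inferInstance, D, inferInstance, inferInstance, central_of_matrix e,
    FiniteDimensional.of_finrank_pos (by rw [hfr]; positivity), hfr, ⟨e⟩⟩

variable (A) in
theorem exists_isIndex : ∃ d, CSAGal.IsIndex k A d := by
  obtain ⟨r, hr, D, _, _, hc, hf, e⟩ := exists_divisionRing_matrix (k := k) A
  obtain ⟨d, hd⟩ := finrank_isSquare (k := k) D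
  rw [← sq] at hd
  refine ⟨d, ?_, r, D, inferInstance, inferInstance, Nat.pos_of_ne_zero hr.ne, hd, e⟩
  rcases Nat.eq_zero_or_pos d with rfl | h
  · exact absurd hd (by simpa using (Module.finrank_pos (R := k) (M := D)).ne')
  · exact h

/-- The index may be computed with a division algebra in any universe. -/
theorem isIndex_eq_of_matrix {d : ℕ} (h : CSAGal.IsIndex k A d) {D : Type w} [DivisionRing D]
    [Algebra k D] [FiniteDimensional k D] {n m : ℕ} (hn : n ≠ 0) (hm : m ≠ 0)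
    (e : Matrix (Fin n) (Fin n) A ≃ₐ[k] Matrix (Fin m) (Fin m) D) {d' : ℕ}
    (hd' : Module.finrank k D = d' ^ 2) : d = d' := by
  obtain ⟨-, m₀, hm₀, D₀, _, _, _, _, hfr, ⟨e₀⟩⟩ := isIndex_elim h
  obtain ⟨E⟩ := nonempty_matrix_matrix (k := k) D₀ n m₀
  have := finrank_eq_of_matrix (Nat.mul_ne_zero hn hm₀.ne) hm ((E.symm.trans e₀.symm.mapMatrix).trans e)
  rw [hfr, hd'] at this
  exact Nat.pow_left_injective two_ne_zero this

theorem isIndex_eq_of_equiv {d : ℕ} (h : CSAGal.IsIndex k A d) {D : Type w} [DivisionRing D]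
    [Algebra k D] [FiniteDimensional k D] {m : ℕ} (hm : m ≠ 0)
    (e : A ≃ₐ[k] Matrix (Fin m) (Fin m) D) {d' : ℕ} (hd' : Module.finrank k D = d' ^ 2) : d = d' := by
  obtain ⟨E⟩ := nonempty_matrix_matrix (k := k) D 1 m
  exact isIndex_eq_of_matrix h one_ne_zero (by simpa using hm)
    (e.mapMatrix.trans E) hd'

theorem isIndex_unique {d d' : ℕ} (h : CSAGal.IsIndex k A d) (h' : CSAGal.IsIndex k A d') : d = d' := by
  obtain ⟨-, m, hm, D, _, _, _, _, hfr, ⟨e⟩⟩ := isIndex_elim h'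
  exact isIndex_eq_of_equiv h hm.ne e hfr

/-- The index is a Brauer invariant. -/
theorem isIndex_congr {B : Type w} [Ring B] [Algebra k B] [IsSimpleRing B] [Algebra.IsCentral k B]
    [FiniteDimensional k B] {n m : ℕ} (hn : n ≠ 0) (hm : m ≠ 0)
    (e : Matrix (Fin n) (Fin n) A ≃ₐ[k] Matrix (Fin m) (Fin m) B) {d : ℕ}
    (h : CSAGal.IsIndex k A d) : CSAGal.IsIndex k B d := by
  obtain ⟨d', h'⟩ := exists_isIndex (k := k) B
  obtain ⟨-, m', hm', D', _, _, _, _, hfr, ⟨e'⟩⟩ := isIndex_elim h'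
  obtain ⟨E⟩ := nonempty_matrix_matrix (k := k) D' m m'
  rwa [isIndex_eq_of_matrix h hn (Nat.mul_ne_zero hm hm'.ne) ((e.trans e'.mapMatrix).trans E) hfr]

theorem isIndex_congr_equiv {B : Type w} [Ring B] [Algebra k B] (e : A ≃ₐ[k] B) {d : ℕ}
    (h : CSAGal.IsIndex k A d) : CSAGal.IsIndex k B d := by
  obtain ⟨_, _, _⟩ := equiv_csa e
  exact isIndex_congr one_ne_zero one_ne_zero e.mapMatrix h

/-- Splitting over the base field means index one. -/
theorem splits_iff_isIndex_one : Curves.Splits k A k ↔ CSAGal.IsIndex k A 1 := by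
  constructor
  · rintro ⟨N, hN, ⟨e⟩⟩
    obtain ⟨d, hd⟩ := exists_isIndex (k := k) A
    rwa [← isIndex_eq_of_equiv hd hN ((Algebra.TensorProduct.lid k A).symm.trans e) (d' := 1) (by simp)]
  · intro h
    obtain ⟨-, m, hm, D, _, _, _, _, hfr, ⟨e⟩⟩ := isIndex_elim h
    let eD : k ≃ₐ[k] D := equivOfFinrankEq (Algebra.ofId k D) (by rw [Module.finrank_self, hfr, one_pow])
    exact ⟨m, hm.ne, ⟨((Algebra.TensorProduct.lid k A).trans e).trans eD.symm.mapMatrix⟩⟩

theorem index_dvd_degree {d n : ℕ} (h : CSAGal.IsIndex k A d) (hn : Module.finrank k A = n ^ 2) :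
    d ∣ n := by
  obtain ⟨-, m, hm, D, _, _, _, _, hfr, ⟨e⟩⟩ := isIndex_elim h
  rw [e.toLinearEquiv.finrank_eq, Module.finrank_matrix, Fintype.card_fin, hfr] at hn
  exact ⟨m, Nat.pow_left_injective two_ne_zero (hn.symm.trans (by ring))⟩

theorem index_tpow_dvd_choose {d d' r : ℕ} (h : CSAGal.IsIndex k A d)
    (h' : CSAGal.IsIndex k (CSAGal.tpow k A r) d') : d' ∣ d.choose r := by
  obtain ⟨hd, m, hm, D, _, _, _, _, hfr, ⟨e⟩⟩ := isIndex_elim h
  haveI := hm
  obtain ⟨_, _, _⟩ := csa_tpow (k := k) A r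
  obtain ⟨_, _, _⟩ := csa_tpow (k := k) D r
  obtain ⟨d'', h''⟩ := exists_isIndex (k := k) (CSAGal.tpow k D r)
  obtain ⟨e1⟩ := nonempty_tpow_congr e r
  obtain ⟨e2⟩ := nonempty_tpow_matrix (k := k) D m r
  have h3 : CSAGal.IsIndex k (CSAGal.tpow k A r) d'' := by
    obtain ⟨E⟩ := nonempty_matrix_matrix (k := k) (CSAGal.tpow k D r) 1 (m ^ r)
    exact isIndex_congr (pow_ne_zero r hm.ne) one_ne_zero
      ((Matrix.reindexAlgEquiv k _ (finCongr (one_mul _).symm)).trans ((e1.trans e2).mapMatrix.trans E).symm) h''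
  rw [isIndex_unique h' h3]
  obtain ⟨-, m', hm', E, _, _, _, _, hE, ⟨eE⟩⟩ := isIndex_elim h''
  exact dvd_choose_of_tpow_equiv d hfr r E m' d'' hE eE

theorem splits_tpow_index {d : ℕ} (h : CSAGal.IsIndex k A d) :
    Curves.Splits k (CSAGal.tpow k A d) k := by
  obtain ⟨_, _, _⟩ := csa_tpow (k := k) A d
  obtain ⟨d', h'⟩ := exists_isIndex (k := k) (CSAGal.tpow k A d)
  have := index_tpow_dvd_choose h h'
  rw [Nat.choose_self, Nat.dvd_one] at this
  subst this
  exact splits_iff_isIndex_one.mpr h'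

theorem dvd_finrank_of_splits {d : ℕ} (h : CSAGal.IsIndex k A d) (L : Type w) [Field L] [Algebra k L]
    [FiniteDimensional k L] (hL : Curves.Splits k A L) : d ∣ Module.finrank k L := by
  obtain ⟨-, m, hm, D, _, _, _, _, hfr, ⟨e⟩⟩ := isIndex_elim h
  obtain ⟨r, hr, -, hdim⟩ := exists_algHom_matrix_of_splits D L
    (splits_of_matrix D L hm.ne (splits_congr e hL))
  rw [Module.finrank_matrix, Fintype.card_fin, hfr] at hdim
  exact ⟨r, Nat.pow_left_injective two_ne_zero (hdim.symm.trans (by ring))⟩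

theorem exists_splitting_degree {d : ℕ} (h : CSAGal.IsIndex k A d) :
    ∃ (L : Type v) (_ : Field L) (_ : Algebra k L), FiniteDimensional k L ∧
      Algebra.IsSeparable k L ∧ Module.finrank k L = d ∧ Curves.Splits k A L := by
  obtain ⟨-, m, hm, D, _, _, _, _, hfr, ⟨e⟩⟩ := isIndex_elim h
  obtain ⟨L, hc, hmax, hs⟩ := exists_separable_maximal (k := k) D
  letI := fieldOfComm D L hc
  have hsq := finrank_eq_sq_of_maximal D L hc hmax
  exact ⟨L, this, L.algebra, inferInstanceAs (FiniteDimensional k L), hs,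
    Nat.pow_left_injective two_ne_zero (hsq.symm.trans hfr),
    splits_congr e.symm (splits_matrix D L m hm.ne (splits_of_subfield L.val hsq))⟩

theorem index_tpow_dvd {d d' r : ℕ} (h : CSAGal.IsIndex k A d)
    (h' : CSAGal.IsIndex k (CSAGal.tpow k A r) d') : d' ∣ d := by
  obtain ⟨L, _, _, _, -, hdeg, hL⟩ := exists_splitting_degree h
  obtain ⟨_, _, _⟩ := csa_tpow (k := k) A r
  rw [← hdeg]
  exact dvd_finrank_of_splits h' L (splits_tpow_of_splits hL r)

section closure

theorem splits_zero : Curves.Splits k (CSAGal.tpow k A 0) k := by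
  haveI : Nontrivial (CSAGal.tpow k A 0) :=
    Module.nontrivial_of_finrank_pos (R := k) (by rw [finrank_tpow, pow_zero]; norm_num)
  let e : k ≃ₐ[k] CSAGal.tpow k A 0 := equivOfFinrankEq (Algebra.ofId k _)
    (by rw [Module.finrank_self, finrank_tpow, pow_zero])
  exact ⟨1, one_ne_zero, ⟨((Algebra.TensorProduct.lid k _).trans e.symm).trans
    ((Matrix.reindexAlgEquiv k k finOneEquiv).trans
      (Matrix.uniqueAlgEquiv (m := Unit) (A := k) (R := k))).symm⟩⟩

theorem splits_add_iff {a b : ℕ} (ha : Curves.Splits k (CSAGal.tpow k A a) k) :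
    Curves.Splits k (CSAGal.tpow k A (a + b)) k ↔ Curves.Splits k (CSAGal.tpow k A b) k := by
  obtain ⟨_, _, _⟩ := csa_tpow (k := k) A b
  obtain ⟨N, hN, ⟨e⟩⟩ := ha
  obtain ⟨E⟩ := nonempty_tpow_add (k := k) A a b
  let F : CSAGal.tpow k A (a + b) ≃ₐ[k] Matrix (Fin N) (Fin N) (CSAGal.tpow k A b) :=
    E.trans ((Algebra.TensorProduct.congr ((Algebra.TensorProduct.lid k _).symm.trans e) AlgEquiv.refl).trans
      ((Algebra.TensorProduct.comm k _ _).trans (matrixEquivTensor (Fin N) k (CSAGal.tpow k A b)).symm))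
  exact ⟨fun h => splits_of_matrix _ k hN (splits_congr F h),
    fun h => splits_congr F.symm (splits_matrix _ k N hN h)⟩

theorem splits_mul {p : ℕ} (hp : Curves.Splits k (CSAGal.tpow k A p) k) (q : ℕ) :
    Curves.Splits k (CSAGal.tpow k A (p * q)) k := by
  induction q with
  | zero => rw [mul_zero]; exact splits_zero
  | succ q ih => rw [mul_add_one, add_comm]; exact (splits_add_iff hp).mpr ih

theorem splits_iff_dvd {p : ℕ} (hp : CSAGal.IsPeriod k A p) (e : ℕ) :
    Curves.Splits k (CSAGal.tpow k A e) k ↔ p ∣ e := by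
  refine ⟨fun h => ?_, fun ⟨q, hq⟩ => hq ▸ splits_mul hp.2.1 q⟩
  by_contra hdvd
  have h' : Curves.Splits k (CSAGal.tpow k A (p * (e / p) + e % p)) k := by rwa [Nat.div_add_mod]
  exact hp.2.2 (e % p) (Nat.pos_of_ne_zero fun h0 => hdvd (Nat.dvd_of_mod_eq_zero h0))
    (Nat.mod_lt _ hp.1) ((splits_add_iff (splits_mul hp.2.1 _)).mp h')

theorem exists_isPeriod : ∃ p, CSAGal.IsPeriod k A p := by
  classical
  obtain ⟨d, hd⟩ := exists_isIndex (k := k) A
  have hex : ∃ p, 0 < p ∧ Curves.Splits k (CSAGal.tpow k A p) k := ⟨d, hd.1, splits_tpow_index hd⟩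
  exact ⟨Nat.find hex, (Nat.find_spec hex).1, (Nat.find_spec hex).2,
    fun e h0 hlt hs => Nat.find_min hex hlt ⟨h0, hs⟩⟩

theorem nonempty_tpow_one : Nonempty (A ≃ₐ[k] CSAGal.tpow k A 1) := by
  haveI : Nontrivial (CSAGal.tpow k A 1) :=
    Module.nontrivial_of_finrank_pos (R := k) (by rw [finrank_tpow, pow_one]; exact Module.finrank_pos)
  exact ⟨equivOfFinrankEq (PiTensorProduct.singleAlgHom (A := fun _ : Fin 1 => A) 0)
    (by rw [finrank_tpow, pow_one])⟩

theorem splits_one_iff : Curves.Splits k (CSAGal.tpow k A 1) k ↔ Curves.Splits k A k := by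
  obtain ⟨e⟩ := nonempty_tpow_one (k := k) (A := A)
  exact ⟨splits_congr e.symm, splits_congr e⟩

theorem nonempty_tpow_tpow (r e : ℕ) :
    Nonempty (CSAGal.tpow k (CSAGal.tpow k A r) e ≃ₐ[k] CSAGal.tpow k A (e * r)) := by
  obtain ⟨_, _, _⟩ := csa_tpow (k := k) A r
  induction e with
  | zero =>
    rw [zero_mul]
    haveI : Nontrivial (CSAGal.tpow k A 0) :=
      Module.nontrivial_of_finrank_pos (R := k) (by rw [finrank_tpow, pow_zero]; norm_num)
    haveI : Nontrivial (CSAGal.tpow k (CSAGal.tpow k A r) 0) :=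
      Module.nontrivial_of_finrank_pos (R := k) (by rw [finrank_tpow, pow_zero]; norm_num)
    exact ⟨(equivOfFinrankEq (Algebra.ofId k _) (by rw [Module.finrank_self, finrank_tpow, pow_zero])).symm.trans
      (equivOfFinrankEq (Algebra.ofId k _) (by rw [Module.finrank_self, finrank_tpow, pow_zero]))⟩
  | succ e ih =>
    obtain ⟨ih⟩ := ih
    obtain ⟨E1⟩ := nonempty_tpow_add (k := k) (CSAGal.tpow k A r) e 1
    obtain ⟨E2⟩ := nonempty_tpow_one (k := k) (A := CSAGal.tpow k A r)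
    obtain ⟨E3⟩ := nonempty_tpow_add (k := k) A (e * r) r
    rw [add_one_mul]
    exact ⟨E1.trans ((Algebra.TensorProduct.congr ih E2.symm).trans E3.symm)⟩

theorem isPeriod_tpow {p : ℕ} (hp : CSAGal.IsPeriod k A p) (r : ℕ) :
    CSAGal.IsPeriod k (CSAGal.tpow k A r) (p / Nat.gcd p r) := by
  have key : ∀ e, Curves.Splits k (CSAGal.tpow k (CSAGal.tpow k A r) e) k ↔ p / Nat.gcd p r ∣ e := by
    intro e
    obtain ⟨E⟩ := nonempty_tpow_tpow (k := k) (A := A) r e
    rw [Nat.div_dvd_iff_dvd_mul (Nat.gcd_dvd_left p r) (Nat.gcd_pos_of_pos_left r hp.1)]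
    refine ⟨fun h => ?_, fun h => ?_⟩
    · have h2 := (splits_iff_dvd hp _).mp (splits_congr E h)
      rw [← Nat.gcd_mul_right]
      exact Nat.dvd_gcd (dvd_mul_right p e) (mul_comm e r ▸ h2)
    · refine splits_congr E.symm ((splits_iff_dvd hp _).mpr (h.trans ?_))
      rw [mul_comm e r]
      exact mul_dvd_mul_right (Nat.gcd_dvd_right p r) e
  have hpos : 0 < p / Nat.gcd p r :=
    Nat.div_pos (Nat.le_of_dvd hp.1 (Nat.gcd_dvd_left p r)) (Nat.gcd_pos_of_pos_left r hp.1)
  exact ⟨hpos, (key _).mpr dvd_rfl,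
    fun e h0 hlt hs => absurd (Nat.le_of_dvd h0 ((key e).mp hs)) (Nat.not_le.mpr hlt)⟩

end closure

section baseChange

theorem dvd_of_algHom_matrix {a n : ℕ} [NeZero a] {D : Type w} [DivisionRing D] [Algebra k D]
    [FiniteDimensional k D] (φ : Matrix (Fin a) (Fin a) k →ₐ[k] Matrix (Fin n) (Fin n) D)
    (hn : n ≠ 0) : a ∣ n := by
  classical
  let E : Fin a → Fin a → Matrix (Fin n) (Fin n) D := fun i j => φ (Matrix.single i j 1)
  have hE : ∀ i j l, E i j * E j l = E i l := fun i j l => by simp [E, ← map_mul]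
  have hE0 : ∀ i j j' l, j ≠ j' → E i j * E j' l = 0 := fun i j j' l h => by
    simp [E, ← map_mul, Matrix.single_mul_single_of_ne, h]
  have hone : ∑ i, E i i = 1 := by
    rw [← map_sum, Matrix.sum_single_one, map_one]
  set I := LinearMap.range (LinearMap.mulRight k (E 0 0)) with hI
  let e : Matrix (Fin n) (Fin n) D ≃ₗ[k] (Fin a → I) :=
    { toFun := fun x i => ⟨x * E i 0, x * E i 0, by rw [LinearMap.mulRight_apply, mul_assoc, hE]⟩
      map_add' := fun x y => funext fun i => Subtype.ext (add_mul x y (E i 0))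
      map_smul' := fun c x => funext fun i => Subtype.ext (smul_mul_assoc c x (E i 0))
      invFun := fun g => ∑ i, (g i : Matrix (Fin n) (Fin n) D) * E 0 i
      left_inv := fun x => by simp only [mul_assoc, hE, ← Finset.mul_sum, hone, mul_one]
      right_inv := fun g => funext fun i => Subtype.ext (by
        show (∑ j, (g j : Matrix (Fin n) (Fin n) D) * E 0 j) * E i 0 = g i
        rw [Finset.sum_mul, Finset.sum_eq_single i]
        · obtain ⟨z, hz⟩ := (g i).2
          rw [← hz, LinearMap.mulRight_apply, mul_assoc, hE, mul_assoc, hE]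
        · intro j _ hj
          rw [mul_assoc, hE0 _ _ _ _ hj, mul_zero]
        · simp) }
  have h1 := e.finrank_eq
  rw [Module.finrank_matrix, Module.finrank_pi_fintype, Fintype.card_fin] at h1
  simp only [Finset.sum_const, Finset.card_univ, Fintype.card_fin, smul_eq_mul] at h1
  obtain ⟨t, ht⟩ := dvd_finrank_range_mulRight (k := k) (E 0 0)
  rw [← hI, Fintype.card_fin] at ht
  rw [ht] at h1
  have hpos : n * Module.finrank k D ≠ 0 := Nat.mul_ne_zero hn Module.finrank_pos.ne'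
  refine ⟨t, Nat.eq_of_mul_eq_mul_right (Nat.pos_of_ne_zero hpos) ?_⟩
  rw [← mul_assoc, h1]
  ring

variable (L : Type w) [Field L] [Algebra k L]

/-- Splitting after an intermediate base change. -/
theorem splits_baseChange_iff {B : Type v} [Ring B] [Algebra k B] (Ω : Type w') [Field Ω]
    [Algebra k Ω] [Algebra L Ω] [IsScalarTower k L Ω] :
    Curves.Splits L (L ⊗[k] B) Ω ↔ Curves.Splits k B Ω := by
  let ce : Ω ⊗[L] (L ⊗[k] B) ≃ₐ[Ω] Ω ⊗[k] B :=
    (Algebra.TensorProduct.assoc k L Ω Ω L B).symm.trans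
      (Algebra.TensorProduct.congr (Algebra.TensorProduct.rid L Ω Ω) (AlgEquiv.refl (R := k)))
  exact ⟨fun ⟨n, hn, ⟨e⟩⟩ => ⟨n, hn, ⟨ce.symm.trans e⟩⟩, fun ⟨n, hn, ⟨e⟩⟩ => ⟨n, hn, ⟨ce.trans e⟩⟩⟩

variable (A) in
theorem baseChange_csa : Algebra.IsCentral L (L ⊗[k] A) ∧ IsSimpleRing (L ⊗[k] A) ∧
    FiniteDimensional L (L ⊗[k] A) := by
  exact csa_of_splits (L ⊗[k] A) (AlgebraicClosure L)
    ((splits_baseChange_iff L (AlgebraicClosure L)).mpr (exists_splits_of_isAlgClosed (k := k) A _))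

theorem index_baseChange [FiniteDimensional k L] {d d' : ℕ} (h : CSAGal.IsIndex k A d)
    (h' : CSAGal.IsIndex L (L ⊗[k] A) d') : d' ∣ d ∧ d ∣ Module.finrank k L * d' := by
  obtain ⟨_, _, _⟩ := baseChange_csa (k := k) A L
  obtain ⟨-, m, hm, D, _, _, _, _, hfr, ⟨e⟩⟩ := isIndex_elim h
  haveI := hm
  obtain ⟨_, _, _⟩ := baseChange_csa (k := k) D L
  obtain ⟨d'', h''⟩ := exists_isIndex (k := L) (L ⊗[k] D)
  obtain ⟨-, a, ha, D'', _, _, _, _, hfr'', ⟨e''⟩⟩ := isIndex_elim h''
  haveI := ha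
  obtain ⟨eM⟩ := nonempty_baseChange_matrix (k := k) D L m
  obtain ⟨E⟩ := nonempty_matrix_matrix (k := L) D'' m a
  obtain rfl : d' = d'' := isIndex_eq_of_equiv h' (Nat.mul_ne_zero hm.ne ha.ne)
    ((((Algebra.TensorProduct.congr AlgEquiv.refl e).trans eM).trans e''.mapMatrix).trans E) hfr''
  have hda : d = a * d' := by
    have h1 := e''.toLinearEquiv.finrank_eq
    rw [Module.finrank_baseChange, hfr, Module.finrank_matrix, Fintype.card_fin, hfr''] at h1
    exact Nat.pow_left_injective two_ne_zero (h1.trans (by ring))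
  refine ⟨⟨a, hda.trans (mul_comm _ _)⟩, ?_⟩
  rw [hda]
  refine mul_dvd_mul_right ?_ d'
  let ψL : L →ₐ[k] Matrix (Fin (Module.finrank k L)) (Fin (Module.finrank k L)) D :=
    (Algebra.ofId k D).mapMatrix.comp (Algebra.leftMulMatrix (Module.finBasis k L))
  let ψ : L ⊗[k] D →ₐ[k] Matrix (Fin (Module.finrank k L)) (Fin (Module.finrank k L)) D :=
    Algebra.TensorProduct.lift ψL (Matrix.scalarAlgHom _ k) (fun l x => by
      ext i j
      simp [ψL, Algebra.commutes])
  let φ : Matrix (Fin a) (Fin a) k →ₐ[k] L ⊗[k] D :=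
    ((e''.symm.toAlgHom.comp (Algebra.ofId L D'').mapMatrix).restrictScalars k).comp
      (Algebra.ofId k L).mapMatrix
  exact dvd_of_algHom_matrix (ψ.comp φ) Module.finrank_pos.ne'

/-- Base change commutes with tensor powers. -/
theorem nonempty_baseChange_tpow (r : ℕ) :
    Nonempty (L ⊗[k] CSAGal.tpow k A r ≃ₐ[L] CSAGal.tpow L (L ⊗[k] A) r) := by
  obtain ⟨_, _, _⟩ := csa_tpow (k := k) A r
  obtain ⟨_, _, _⟩ := baseChange_csa (k := k) A L
  obtain ⟨_, _, _⟩ := baseChange_csa (k := k) (CSAGal.tpow k A r) L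
  obtain ⟨_, _, _⟩ := csa_tpow (k := L) (L ⊗[k] A) r
  let f : MultilinearMap k (fun _ : Fin r => A) (CSAGal.tpow L (L ⊗[k] A) r) :=
    ((PiTensorProduct.tprod L).restrictScalars k).compLinearMap
      fun _ => (Algebra.TensorProduct.includeRight : A →ₐ[k] L ⊗[k] A).toLinearMap
  let ψ : CSAGal.tpow k A r →ₐ[k] CSAGal.tpow L (L ⊗[k] A) r := tpowLift f
    (by
      simp only [f, MultilinearMap.compLinearMap_apply, Pi.one_apply, AlgHom.toLinearMap_apply, map_one]
      rfl)
    (fun x y => by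
      simp only [f, MultilinearMap.compLinearMap_apply, Pi.mul_apply, AlgHom.toLinearMap_apply, map_mul]
      exact (PiTensorProduct.tprodMonoidHom L).map_mul _ _)
  refine ⟨equivOfFinrankEq (Algebra.TensorProduct.lift (Algebra.ofId L _) ψ
    (fun l t => show Commute (Algebra.ofId L (CSAGal.tpow L (L ⊗[k] A) r) l) (ψ t) from
      Algebra.commutes l (ψ t))) ?_⟩
  rw [Module.finrank_baseChange, finrank_tpow, finrank_tpow, Module.finrank_baseChange]

theorem splits_baseChange_tpow {r : ℕ} (h : Curves.Splits k (CSAGal.tpow k A r) k) :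
    Curves.Splits L (CSAGal.tpow L (L ⊗[k] A) r) L := by
  obtain ⟨_, _, _⟩ := baseChange_csa (k := k) A L
  obtain ⟨_, _, _⟩ := csa_tpow (k := k) A r
  obtain ⟨N, hN, ⟨e⟩⟩ := h
  obtain ⟨E⟩ := nonempty_baseChange_tpow (k := k) (A := A) L r
  obtain ⟨eM⟩ := nonempty_baseChange_matrix (k := k) k L N
  exact ⟨N, hN, ⟨(Algebra.TensorProduct.lid L _).trans (E.symm.trans
    (((Algebra.TensorProduct.congr AlgEquiv.refl ((Algebra.TensorProduct.lid k _).symm.trans e)).trans eM).trans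
      (Algebra.TensorProduct.rid k L L).mapMatrix))⟩⟩

end baseChange

theorem prime_dvd_of_splits {d e p : ℕ} (h : CSAGal.IsIndex k A d)
    (hs : Curves.Splits k (CSAGal.tpow k A e) k) (hp : p.Prime) (hpd : p ∣ d) : p ∣ e := by
  classical
  by_contra hpe
  haveI := Fact.mk hp
  obtain ⟨L, _, _, _, _, hL⟩ := exists_galois_splitting (k := k) A
  obtain ⟨P⟩ := (inferInstance : Nonempty (Sylow p (L ≃ₐ[k] L)))
  let K := IntermediateField.fixedField (P : Subgroup (L ≃ₐ[k] L))
  have hKL : Module.finrank K L = Nat.card P := IntermediateField.finrank_fixedField_eq_card _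
  obtain ⟨s, hs'⟩ := P.2.exists_card_eq
  have hcop : ¬ p ∣ Module.finrank k K := by
    have h1 : Module.finrank k K * Nat.card P = (P : Subgroup (L ≃ₐ[k] L)).index * Nat.card P := by
      rw [Subgroup.index_mul_card, ← hKL, Module.finrank_mul_finrank, IsGalois.card_aut_eq_finrank]
    rw [Nat.eq_of_mul_eq_mul_right Nat.card_pos h1]
    exact P.not_dvd_index
  obtain ⟨_, _, _⟩ := baseChange_csa (k := k) A K
  obtain ⟨d', h'⟩ := exists_isIndex (k := K) (K ⊗[k] A)
  have hpd' : p ∣ d' :=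
    (hp.dvd_mul.mp (hpd.trans (index_baseChange K h h').2)).resolve_left hcop
  have hdL : d' ∣ p ^ s := by
    rw [← hs', ← hKL]
    exact dvd_finrank_of_splits h' L ((splits_baseChange_iff K L).mpr hL)
  obtain ⟨per, hper⟩ := exists_isPeriod (k := K) (A := K ⊗[k] A)
  have h1 : per ∣ e := (splits_iff_dvd hper e).mp (splits_baseChange_tpow K hs)
  have h2 : per ∣ p ^ s := ((splits_iff_dvd hper d').mp (splits_tpow_index h')).trans hdL
  obtain rfl : per = 1 :=
    Nat.eq_one_of_dvd_coprimes ((hp.coprime_iff_not_dvd.mpr hpe).symm.pow_right s) h1 h2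
  have := isIndex_unique h' (splits_iff_isIndex_one.mp (splits_one_iff.mp hper.2.1))
  subst this
  exact hp.not_dvd_one hpd'

end Groth.Agent.H23Brauer
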