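import Groth.Agent.H23CSA.Descent
import Groth.Agent.H23Brauer.Period
import Groth.Agent.H29CSA.Centralizer
import Groth.Agent.H29CSA.RedNorm

/-!
# Splittings of central simple algebras with constant cocycles
-/

set_option autoImplicit false
set_option linter.style.haveILetI false
set_option linter.unusedSectionVars false

open scoped TensorProduct

universe u v

namespace Groth.Agent.H23Brauer

open Groth.Agent.H29CSA

section descent

variable {M F : Type u} [Field M] [Field F] [Algebra M F] [FiniteDimensional M F] [IsGalois M F] {N : ℕ}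

/-- Hilbert 90 for the general linear group. -/
theorem exists_fixed_matrix (Q : (F ≃ₐ[M] F) → Matrix (Fin N) (Fin N) F) (hdet : ∀ σ, IsUnit (Q σ).det)
    (hQ : ∀ σ τ, Q (σ * τ) = Q σ * (Q τ).map σ) :
    ∃ B : Matrix (Fin N) (Fin N) F, IsUnit B.det ∧ ∀ σ, Q σ * B.map σ = B := by
  classical
  have hQ1 : Q 1 = 1 := by
    have h := hQ 1 1
    rw [mul_one, show ((1 : F ≃ₐ[M] F) : F → F) = id from rfl, Matrix.map_id] at h
    exact ((Q 1).isUnit_iff_isUnit_det.mpr (hdet 1)).mul_eq_left.mp h.symm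
  letI act : DistribMulAction (F ≃ₐ[M] F) (Fin N → F) :=
    { smul := fun σ v => (Q σ).mulVec fun i => σ (v i)
      one_smul := fun v => by show (Q 1).mulVec _ = v; rw [hQ1, Matrix.one_mulVec]; rfl
      mul_smul := fun σ τ v => by
        show (Q (σ * τ)).mulVec _ = (Q σ).mulVec fun i => σ ((Q τ).mulVec (fun i => τ (v i)) i)
        rw [hQ, ← Matrix.mulVec_mulVec]
        congr 1
        funext i
        exact (RingHom.map_mulVec (σ : F →+* F) (Q τ) (fun i => τ (v i)) i).symm
      smul_zero := fun σ => by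
        show (Q σ).mulVec _ = 0
        rw [show (fun i => σ ((0 : Fin N → F) i)) = 0 from funext fun i => map_zero σ, Matrix.mulVec_zero]
      smul_add := fun σ v w => by
        show (Q σ).mulVec _ = (Q σ).mulVec _ + (Q σ).mulVec _
        rw [← Matrix.mulVec_add]
        exact congrArg _ (funext fun i => map_add σ _ _) }
  obtain ⟨hspan, -⟩ := @Groth.Agent.S7723.result M _ F _ _ _ _ (Fin N → F) _ _ _ _ act (fun σ a v => by
    show (Q σ).mulVec _ = σ a • (Q σ).mulVec _
    rw [← Matrix.mulVec_smul]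
    exact congrArg _ (funext fun i => map_mul σ _ _))
  obtain ⟨s, hs, hsp, hli⟩ := exists_linearIndependent F
    (@MulAction.fixedPoints (F ≃ₐ[M] F) (Fin N → F) _ act.toMulAction)
  replace hsp := hsp.trans hspan
  let b := Module.Basis.mk hli (by rw [Subtype.range_coe]; exact hsp.ge)
  haveI : Fintype s := FiniteDimensional.fintypeBasisIndex b
  have hcard : Fintype.card s = N := by
    rw [← Module.finrank_eq_card_basis b, Module.finrank_fin_fun]
  let e : Fin N ≃ s := (Fintype.equivFinOfCardEq hcard).symm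
  refine ⟨Matrix.of fun i j => (e j : Fin N → F) i, ?_, fun σ => ?_⟩
  · rw [← Matrix.isUnit_iff_isUnit_det, ← Matrix.linearIndependent_cols_iff_isUnit]
    exact hli.comp e e.injective
  · ext i j
    exact congrFun (hs (e j).2 σ) i

end descent

section scalar

variable {E : Type u} [Field E] {D : Type v} [Ring D] [Algebra E D] [Algebra.IsCentral E D] [IsSimpleRing D]
  [FiniteDimensional E D] {F : Type u} [Field F] [Algebra E F] {N : ℕ} [NeZero N]

/-- Extension of a matrix representation to the extended scalars. -/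
noncomputable def liftMat (f : D →ₐ[E] Matrix (Fin N) (Fin N) F) : F ⊗[E] D →ₐ[F] Matrix (Fin N) (Fin N) F :=
  Algebra.TensorProduct.lift (Algebra.ofId F _) f fun l a => Algebra.commutes l (f a)

theorem liftMat_tmul (f : D →ₐ[E] Matrix (Fin N) (Fin N) F) (a : F) (x : D) :
    liftMat f (a ⊗ₜ[E] x) = algebraMap F _ a * f x :=
  Algebra.TensorProduct.lift_tmul _ _ _ _ _

theorem liftMat_bijective (f : D →ₐ[E] Matrix (Fin N) (Fin N) F) (hN : Module.finrank E D = N * N) :
    Function.Bijective (liftMat f) := by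
  haveI := baseChange_isSimpleRing (k := E) D F
  exact (equivOfFinrankEq (liftMat f) (by
    rw [Module.finrank_baseChange, hN, Module.finrank_matrix, Fintype.card_fin, Module.finrank_self, mul_one])).bijective

theorem scalar_of_commute (f : D →ₐ[E] Matrix (Fin N) (Fin N) F) (hN : Module.finrank E D = N * N)
    (X : Matrix (Fin N) (Fin N) F) (hX : ∀ x, X * f x = f x * X) : ∃ u : F, X = u • (1 : Matrix (Fin N) (Fin N) F) := by
  classical
  have h : ∀ Y : Matrix (Fin N) (Fin N) F, Commute Y X := fun Y => by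
    obtain ⟨t, rfl⟩ := (liftMat_bijective f hN).2 Y
    induction t using TensorProduct.induction_on with
    | zero => rw [map_zero]; exact Commute.zero_left X
    | tmul a x =>
      rw [liftMat_tmul]
      exact Commute.mul_left (Algebra.commutes a X) (hX x).symm
    | add s t hs ht => rw [map_add]; exact hs.add_left ht
  obtain ⟨u, hu⟩ := Matrix.mem_range_scalar_iff_commute_single'.mpr fun i j => h (Matrix.single i j 1)
  exact ⟨u, by rw [← hu, Matrix.scalar_apply, Matrix.smul_one_eq_diagonal]⟩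

theorem exists_conj (f g : D →ₐ[E] Matrix (Fin N) (Fin N) F) :
    ∃ P : Matrix (Fin N) (Fin N) F, IsUnit P.det ∧ ∀ x, f x * P = P * g x := by
  haveI := baseChange_isSimpleRing (k := E) D F
  obtain ⟨x, hx⟩ := skolem_noether (liftMat f) (liftMat g)
  refine ⟨x, (Matrix.isUnit_iff_isUnit_det _).mp x.isUnit, fun d => ?_⟩
  have h := hx ((1 : F) ⊗ₜ d)
  rw [liftMat_tmul, liftMat_tmul, map_one, one_mul, one_mul] at h
  rw [h, mul_assoc, Units.inv_mul, mul_one]

/-- A cocycle compatible with a splitting yields a splitting over the fixed field. -/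
theorem splits_of_cocycle {M : Type u} [Field M] [Algebra E M] [Algebra M F] [IsScalarTower E M F]
    [FiniteDimensional M F] [IsGalois M F]
    (ρ : D →ₐ[E] Matrix (Fin N) (Fin N) F) (hN : Module.finrank E D = N * N)
    (Q : (F ≃ₐ[M] F) → Matrix (Fin N) (Fin N) F) (hdet : ∀ σ, IsUnit (Q σ).det)
    (hQ : ∀ σ τ, Q (σ * τ) = Q σ * (Q τ).map σ) (hconj : ∀ σ x, ρ x * Q σ = Q σ * (ρ x).map σ) :
    Curves.Splits E D M := by
  classical
  obtain ⟨B, hB, hfix⟩ := exists_fixed_matrix Q hdet hQ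
  let ι : M →ₐ[E] F := IsScalarTower.toAlgHom E M F
  have hmem : ∀ x, (Matrix.of fun i j => (B⁻¹ * ρ x * B) i j) ∈ (ι.mapMatrix (m := Fin N)).range := by
    intro x
    have hσ : ∀ σ : F ≃ₐ[M] F, (B⁻¹ * ρ x * B).map σ = B⁻¹ * ρ x * B := by
      intro σ
      let S : Matrix (Fin N) (Fin N) F →+* Matrix (Fin N) (Fin N) F := (σ : F →+* F).mapMatrix
      have hB' : IsUnit B := (Matrix.isUnit_iff_isUnit_det B).mpr hB
      show S (B⁻¹ * ρ x * B) = _
      refine hB'.mul_left_cancel ?_
      rw [← mul_assoc B (B⁻¹ * ρ x), ← mul_assoc B B⁻¹, Matrix.mul_nonsing_inv B hB, one_mul]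
      refine (congrArg (· * S (B⁻¹ * ρ x * B)) (hfix σ)).symm.trans ?_
      show Q σ * S B * S (B⁻¹ * ρ x * B) = ρ x * B
      rw [mul_assoc, ← map_mul, ← mul_assoc, ← mul_assoc, Matrix.mul_nonsing_inv B hB, one_mul, map_mul,
        ← mul_assoc]
      show Q σ * (ρ x).map σ * S B = _
      rw [← hconj σ x, mul_assoc]
      exact congrArg (ρ x * ·) (hfix σ)
    have hr : ∀ i j, (B⁻¹ * ρ x * B) i j ∈ Set.range (algebraMap M F) := fun i j =>
      (IsGalois.mem_range_algebraMap_iff_fixed (F := M) _).mpr fun σ => congrFun (congrFun (hσ σ) i) j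
    choose y hy using hr
    exact ⟨Matrix.of y, Matrix.ext fun i j => hy i j⟩
  have hinj : Function.Injective ι.mapMatrix (α := Matrix (Fin N) (Fin N) M) := fun X Y hXY => by
    ext i j
    exact ι.injective (congrFun (congrFun hXY i) j)
  let f : D →ₐ[E] Matrix (Fin N) (Fin N) F := AlgHom.ofLinearMap
    ((LinearMap.mulRight E B).comp ((LinearMap.mulLeft E B⁻¹).comp ρ.toLinearMap))
    (by simp [Matrix.nonsing_inv_mul B hB])
    (fun x y => by
      simp only [LinearMap.comp_apply, LinearMap.mulRight_apply, LinearMap.mulLeft_apply, AlgHom.toLinearMap_apply,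
        map_mul, mul_assoc, Matrix.mul_nonsing_inv_cancel_left _ _ hB])
  let g : D →ₐ[E] Matrix (Fin N) (Fin N) M :=
    (AlgEquiv.ofInjective ι.mapMatrix hinj).symm.toAlgHom.comp (f.codRestrict _ hmem)
  exact ⟨N, NeZero.ne N, ⟨AlgEquiv.ofBijective _ (liftMat_bijective g hN)⟩⟩

end scalar

/-- Rescaling a projective representation by roots of determinants. -/
theorem exists_normalized_step {k E F1 F2 : Type u} [Field k] [IsAlgClosed k] [CharZero k] [Field E] [Field F1]
    [Field F2] [Algebra k F2] [Algebra E F1] [Algebra E F2] [Algebra F1 F2] [IsScalarTower E F1 F2] [Normal E F1]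
    {D : Type v} [Ring D] [Algebra E D] [Algebra.IsCentral E D] [IsSimpleRing D] [FiniteDimensional E D]
    {N : ℕ} [NeZero N] (ρ1 : D →ₐ[E] Matrix (Fin N) (Fin N) F1) (hcard : Module.finrank E D = N * N)
    (P1 : (F1 ≃ₐ[E] F1) → Matrix (Fin N) (Fin N) F1) (hP1d : ∀ σ, IsUnit (P1 σ).det)
    (hP1 : ∀ σ x, ρ1 x * P1 σ = P1 σ * (ρ1 x).map σ)
    (w2 : (F1 ≃ₐ[E] F1) → F2) (hw2 : ∀ σ, w2 σ ^ N = algebraMap F1 F2 (P1 σ).det) :
    ∃ (ρ : D →ₐ[E] Matrix (Fin N) (Fin N) F2) (P : (F2 ≃ₐ[E] F2) → Matrix (Fin N) (Fin N) F2)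
      (c : (F2 ≃ₐ[E] F2) → (F2 ≃ₐ[E] F2) → k), Module.finrank E D = N * N ∧ (∀ σ, IsUnit (P σ).det) ∧
      (∀ σ x, ρ x * P σ = P σ * (ρ x).map σ) ∧
      ∀ σ τ, P σ * (P τ).map σ = algebraMap k F2 (c σ τ) • P (σ * τ) := by
  classical
  have hN : N ≠ 0 := NeZero.ne N
  let ι12 : F1 →ₐ[E] F2 := IsScalarTower.toAlgHom E F1 F2
  let ρ : D →ₐ[E] Matrix (Fin N) (Fin N) F2 := ι12.mapMatrix.comp ρ1
  let res : (F2 ≃ₐ[E] F2) →* (F1 ≃ₐ[E] F1) := AlgEquiv.restrictNormalHom F1
  have hw0 : ∀ σ, w2 σ ≠ 0 := fun σ h => (hP1d σ).ne_zero ((algebraMap F1 F2).injective (by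
    rw [map_zero, ← hw2, h, zero_pow hN]))
  let P : (F2 ≃ₐ[E] F2) → Matrix (Fin N) (Fin N) F2 := fun σ =>
    (w2 (res σ))⁻¹ • (algebraMap F1 F2).mapMatrix (P1 (res σ))
  have hdet : ∀ σ, (P σ).det = 1 := fun σ => by
    simp only [P, Matrix.det_smul, Fintype.card_fin, ← RingHom.map_det]
    rw [inv_pow, hw2, inv_mul_cancel₀ ((map_ne_zero_iff _ (algebraMap F1 F2).injective).mpr (hP1d _).ne_zero)]
  have hmap : ∀ (σ : F2 ≃ₐ[E] F2) (x : D), (ρ x).map σ = (algebraMap F1 F2).mapMatrix ((ρ1 x).map (res σ)) := by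
    intro σ x
    refine Matrix.ext fun i j => ?_
    exact (AlgEquiv.restrictNormal_commutes σ F1 (ρ1 x i j)).symm
  have hconj : ∀ σ x, ρ x * P σ = P σ * (ρ x).map σ := fun σ x => by
    rw [hmap, Matrix.mul_smul, Matrix.smul_mul, ← map_mul, ← hP1, map_mul]
    rfl
  have hdu : ∀ σ, IsUnit (P σ).det := fun σ => by rw [hdet]; exact isUnit_one
  obtain ⟨ζ, hζ⟩ : ∃ ζ : k, IsPrimitiveRoot ζ N := by
    haveI : NeZero (N : k) := ⟨Nat.cast_ne_zero.mpr hN⟩
    exact HasEnoughRootsOfUnity.exists_primitiveRoot k N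
  have hc : ∀ σ τ, ∃ c : k, P σ * (P τ).map σ = algebraMap k F2 c • P (σ * τ) := by
    intro σ τ
    let S : Matrix (Fin N) (Fin N) F2 →+* Matrix (Fin N) (Fin N) F2 := (σ : F2 →+* F2).mapMatrix
    have hu := (Matrix.isUnit_iff_isUnit_det _).mpr (hdu (σ * τ))
    obtain ⟨u, hu'⟩ := scalar_of_commute ρ hcard (P σ * S (P τ) * (P (σ * τ))⁻¹) fun x => by
      have h1 : ρ x * (P σ * S (P τ)) = P σ * S (P τ) * (ρ x).map ⇑(σ * τ) := by
        rw [← mul_assoc, hconj, mul_assoc, mul_assoc]
        congr 1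
        show S (ρ x) * S (P τ) = S (P τ) * _
        rw [← map_mul, hconj, map_mul]
        exact congrArg (S (P τ) * ·) (Matrix.map_map)
      have h2 : (P (σ * τ))⁻¹ * ρ x = (ρ x).map ⇑(σ * τ) * (P (σ * τ))⁻¹ := by
        refine hu.mul_left_cancel ?_
        rw [← mul_assoc, Matrix.mul_nonsing_inv _ (hdu _), one_mul, ← mul_assoc, ← hconj, mul_assoc,
          Matrix.mul_nonsing_inv _ (hdu _), mul_one]
      rw [mul_assoc (P σ * S (P τ)), h2, ← mul_assoc, ← h1, mul_assoc]
    have huN : u ^ N = 1 := by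
      have := congrArg Matrix.det hu'
      rw [Matrix.det_mul, Matrix.det_mul, Matrix.det_nonsing_inv, hdet, hdet, ← RingHom.map_det, hdet, map_one,
        Ring.inverse_one, one_mul, one_mul, Matrix.det_smul, Matrix.det_one, mul_one, Fintype.card_fin] at this
      exact this.symm
    obtain ⟨i, -, hi⟩ := (hζ.map_of_injective (algebraMap k F2).injective).eq_pow_of_pow_eq_one huN
    refine ⟨ζ ^ i, ?_⟩
    show P σ * S (P τ) = _
    rw [map_pow, hi, ← one_mul (P (σ * τ)), ← Matrix.smul_mul, ← hu', mul_assoc _ _ (P (σ * τ)),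
      Matrix.nonsing_inv_mul _ (hdu _), mul_one]
  choose c hc using hc
  exact ⟨ρ, P, c, hcard, hdu, hconj, hc⟩

/-- Rescaling, with the roots given in a larger field. -/
theorem exists_normalized_step' {k E F1 F2 Ω : Type u} [Field k] [IsAlgClosed k] [CharZero k] [Field E] [Field F1]
    [Field F2] [Field Ω] [Algebra k F2] [Algebra E F1] [Algebra E F2] [Algebra F1 F2] [IsScalarTower E F1 F2]
    [Normal E F1] {D : Type v} [Ring D] [Algebra E D] [Algebra.IsCentral E D] [IsSimpleRing D] [FiniteDimensional E D]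
    {N : ℕ} [NeZero N] (ρ1 : D →ₐ[E] Matrix (Fin N) (Fin N) F1) (hcard : Module.finrank E D = N * N)
    (P1 : (F1 ≃ₐ[E] F1) → Matrix (Fin N) (Fin N) F1) (hP1d : ∀ σ, IsUnit (P1 σ).det)
    (hP1 : ∀ σ x, ρ1 x * P1 σ = P1 σ * (ρ1 x).map σ)
    (j : F2 →+* Ω) (j1 : F1 → Ω) (hj : ∀ x, j (algebraMap F1 F2 x) = j1 x)
    (w : (F1 ≃ₐ[E] F1) → Ω) (hmem : ∀ σ, ∃ y, j y = w σ) (hw : ∀ σ, w σ ^ N = j1 (P1 σ).det) :
    ∃ (ρ : D →ₐ[E] Matrix (Fin N) (Fin N) F2) (P : (F2 ≃ₐ[E] F2) → Matrix (Fin N) (Fin N) F2)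
      (c : (F2 ≃ₐ[E] F2) → (F2 ≃ₐ[E] F2) → k), Module.finrank E D = N * N ∧ (∀ σ, IsUnit (P σ).det) ∧
      (∀ σ x, ρ x * P σ = P σ * (ρ x).map σ) ∧
      ∀ σ τ, P σ * (P τ).map σ = algebraMap k F2 (c σ τ) • P (σ * τ) := by
  choose y hy using hmem
  exact exists_normalized_step ρ1 hcard P1 hP1d hP1 y fun σ => j.injective (by rw [map_pow, hy, hw, hj])

theorem inclusion_algebraMap {K Ω : Type u} [Field K] [Field Ω] [Algebra K Ω] {S T : IntermediateField K Ω} (h : S ≤ T)
    (x : S) :
    T.val.toRingHom (@algebraMap S T _ _ ((IntermediateField.inclusion h).toRingHom.toAlgebra) x) = (x : Ω) := rfl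

/-- Splitting data with values of the cocycle in the algebraically closed constant field. -/
theorem exists_normalized_aux (k K E Ω : Type u) [Field k] [IsAlgClosed k] [CharZero k] [Field K] [Algebra k K] [Field E]
    [Algebra K E] [FiniteDimensional K E] (D : Type v) [Ring D] [Algebra E D] [Algebra.IsCentral E D]
    [IsSimpleRing D] [FiniteDimensional E D] [Field Ω] [IsAlgClosed Ω] [Algebra K Ω] [Algebra E Ω]
    [IsScalarTower K E Ω] [Algebra.IsAlgebraic K Ω] :
    ∃ (F : Type u) (_ : Field F) (_ : Algebra k F) (_ : Algebra K F) (_ : Algebra E F),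
      IsScalarTower k K F ∧ IsScalarTower K E F ∧ FiniteDimensional K F ∧ IsGalois K F ∧
      ∃ (N : ℕ) (_ : NeZero N) (ρ : D →ₐ[E] Matrix (Fin N) (Fin N) F) (P : (F ≃ₐ[E] F) → Matrix (Fin N) (Fin N) F)
        (c : (F ≃ₐ[E] F) → (F ≃ₐ[E] F) → k), Module.finrank E D = N * N ∧ (∀ σ, IsUnit (P σ).det) ∧
        (∀ σ x, ρ x * P σ = P σ * (ρ x).map σ) ∧
        ∀ σ τ, P σ * (P τ).map σ = algebraMap k F (c σ τ) • P (σ * τ) := by
  classical
  haveI : CharZero K := charZero_of_injective_algebraMap (algebraMap k K).injective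
  haveI : IsAlgClosure K Ω := ⟨inferInstance, inferInstance⟩
  haveI : IsGalois K Ω := inferInstance
  obtain ⟨N, hN, ⟨e⟩⟩ := exists_splits_of_isAlgClosed (k := E) D Ω
  haveI : NeZero N := ⟨hN⟩
  have hcard : Module.finrank E D = N * N := by rw [finrank_eq_sq_of_splits D Ω e, pow_two]
  let ρΩ : D →ₐ[E] Matrix (Fin N) (Fin N) Ω :=
    (e.toAlgHom.restrictScalars E).comp Algebra.TensorProduct.includeRight
  let bE := Module.finBasis K E
  let bD := Module.finBasis E D
  let T : Finset Ω := (Finset.univ.image fun i => algebraMap E Ω (bE i)) ∪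
    Finset.univ.image fun t : Fin (Module.finrank E D) × Fin N × Fin N => ρΩ (bD t.1) t.2.1 t.2.2
  let F0 := IntermediateField.adjoin K (T : Set Ω)
  haveI : FiniteDimensional K F0 :=
    IntermediateField.finiteDimensional_adjoin fun z _ => Algebra.IsIntegral.isIntegral z
  let F1 := IntermediateField.normalClosure K F0 Ω
  have hF0 : F0 ≤ F1 := IntermediateField.le_normalClosure F0
  have hE : ∀ z : E, algebraMap E Ω z ∈ F1 := fun z => by
    rw [← bE.sum_repr z, map_sum]
    refine sum_mem fun i _ => ?_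
    rw [Algebra.smul_def, map_mul, ← IsScalarTower.algebraMap_apply]
    exact mul_mem (F1.algebraMap_mem _) (hF0 (IntermediateField.subset_adjoin K _
      (Finset.mem_union_left _ (Finset.mem_image_of_mem _ (Finset.mem_univ i)))))
  letI : Algebra E F1 := ((algebraMap E Ω).codRestrict F1 hE).toAlgebra
  haveI : IsScalarTower K E F1 := IsScalarTower.of_algebraMap_eq fun z => Subtype.ext
    (IsScalarTower.algebraMap_apply K E Ω z)
  haveI : IsScalarTower E F1 Ω := IsScalarTower.of_algebraMap_eq fun z => rfl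
  haveI : FiniteDimensional E F1 := Module.Finite.of_restrictScalars_finite K E F1
  haveI : IsGalois E F1 := IsGalois.tower_top_of_isGalois K E F1
  let ι1 : F1 →ₐ[E] Ω := IsScalarTower.toAlgHom E F1 Ω
  have hmem : ∀ x, ρΩ x ∈ (ι1.mapMatrix (m := Fin N)).range := by
    intro x
    rw [← bD.sum_repr x, map_sum]
    refine Subalgebra.sum_mem _ fun i _ => ?_
    rw [map_smul]
    refine Subalgebra.smul_mem _ ?_ _
    exact ⟨Matrix.of fun p q => ⟨ρΩ (bD i) p q, hF0 (IntermediateField.subset_adjoin K _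
      (Finset.mem_union_right _ (Finset.mem_image.mpr ⟨(i, p, q), Finset.mem_univ _, rfl⟩)))⟩,
      Matrix.ext fun p q => rfl⟩
  have hinj : Function.Injective ι1.mapMatrix (α := Matrix (Fin N) (Fin N) F1) := fun X Y hXY => by
    ext i j
    exact congrArg Subtype.val (ι1.injective (congrFun (congrFun hXY i) j))
  let ρ1 : D →ₐ[E] Matrix (Fin N) (Fin N) F1 :=
    (AlgEquiv.ofInjective ι1.mapMatrix hinj).symm.toAlgHom.comp (ρΩ.codRestrict _ hmem)
  have hP1 : ∀ σ : F1 ≃ₐ[E] F1, ∃ P : Matrix (Fin N) (Fin N) F1, IsUnit P.det ∧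
      ∀ x, ρ1 x * P = P * (ρ1 x).map σ := fun σ => exists_conj ρ1 (σ.toAlgHom.mapMatrix.comp ρ1)
  choose P1 hP1d hP1 using hP1
  have hw : ∀ σ : F1 ≃ₐ[E] F1, ∃ w : Ω, w ^ N = ((P1 σ).det : Ω) := fun σ =>
    IsAlgClosed.exists_pow_nat_eq _ (Nat.pos_of_ne_zero hN)
  choose w hw using hw
  let T2 : Set Ω := (F1 : Set Ω) ∪ Set.range w
  let G0 := IntermediateField.adjoin K T2
  haveI : FiniteDimensional K G0 := by
    haveI : Finite (F1 ≃ₐ[E] F1) := inferInstance
    haveI : FiniteDimensional K (IntermediateField.adjoin K (Set.range w)) :=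
      IntermediateField.finiteDimensional_adjoin fun z _ => Algebra.IsIntegral.isIntegral z
    show FiniteDimensional K (IntermediateField.adjoin K ((F1 : Set Ω) ∪ Set.range w))
    rw [IntermediateField.adjoin_union, IntermediateField.adjoin_self]
    infer_instance
  let F2 := IntermediateField.normalClosure K G0 Ω
  have hG0 : G0 ≤ F2 := IntermediateField.le_normalClosure G0
  have h12 : F1 ≤ F2 := fun z hz => hG0 (IntermediateField.subset_adjoin K _ (Or.inl hz))
  letI : Algebra F1 F2 := (IntermediateField.inclusion h12).toRingHom.toAlgebra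
  letI : Algebra E F2 := ((algebraMap F1 F2).comp (algebraMap E F1)).toAlgebra
  haveI : IsScalarTower E F1 F2 := IsScalarTower.of_algebraMap_eq fun z => rfl
  haveI : IsScalarTower K E F2 := IsScalarTower.of_algebraMap_eq fun z => Subtype.ext
    (IsScalarTower.algebraMap_apply K E Ω z)
  letI : Algebra k F2 := ((algebraMap K F2).comp (algebraMap k K)).toAlgebra
  refine ⟨F2, inferInstance, inferInstance, inferInstance, inferInstance,
    IsScalarTower.of_algebraMap_eq fun z => rfl, inferInstance, inferInstance, inferInstance, N, inferInstance, ?_⟩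
  exact exists_normalized_step' ρ1 hcard P1 hP1d hP1 F2.val.toRingHom (fun x => (x : Ω))
    (fun x => inclusion_algebraMap h12 x) w
    (fun σ => ⟨⟨w σ, hG0 (IntermediateField.subset_adjoin K _ (Or.inr ⟨σ, rfl⟩))⟩, rfl⟩) hw

/-- Splitting data with values of the cocycle in the algebraically closed constant field. -/
theorem exists_normalized (k K E : Type u) [Field k] [IsAlgClosed k] [CharZero k] [Field K] [Algebra k K] [Field E]
    [Algebra K E] [FiniteDimensional K E] (D : Type v) [Ring D] [Algebra E D] [Algebra.IsCentral E D]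
    [IsSimpleRing D] [FiniteDimensional E D] :
    ∃ (F : Type u) (_ : Field F) (_ : Algebra k F) (_ : Algebra K F) (_ : Algebra E F),
      IsScalarTower k K F ∧ IsScalarTower K E F ∧ FiniteDimensional K F ∧ IsGalois K F ∧
      ∃ (N : ℕ) (_ : NeZero N) (ρ : D →ₐ[E] Matrix (Fin N) (Fin N) F) (P : (F ≃ₐ[E] F) → Matrix (Fin N) (Fin N) F)
        (c : (F ≃ₐ[E] F) → (F ≃ₐ[E] F) → k), Module.finrank E D = N * N ∧ (∀ σ, IsUnit (P σ).det) ∧
        (∀ σ x, ρ x * P σ = P σ * (ρ x).map σ) ∧
        ∀ σ τ, P σ * (P τ).map σ = algebraMap k F (c σ τ) • P (σ * τ) := by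
  haveI : Algebra.IsAlgebraic K (AlgebraicClosure E) := Algebra.IsAlgebraic.trans K E (AlgebraicClosure E)
  exact exists_normalized_aux k K E (AlgebraicClosure E) D

section coboundary

attribute [local instance] CSAGal.matrixAction GpH1.unitsAction CSAGal.pglAction CSAGal.tensorAction

/-- A cocycle with invariant values is a coboundary over a field of type C₁. -/
theorem exists_coboundary {E P : Type u} [Field E] [Field P] [Algebra E P] [FiniteDimensional E P] [IsGalois E P]
    (hE : Curves.IsCr E 1) (c : (P ≃ₐ[E] P) → (P ≃ₐ[E] P) → E) (hc0 : ∀ g h, c g h ≠ 0)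
    (hc : ∀ g h l, c g h * c (g * h) l = c h l * c g (h * l)) :
    ∃ u : (P ≃ₐ[E] P) → P, (∀ g, u g ≠ 0) ∧
      ∀ g h, algebraMap E P (c g h) * u (g * h) = u g * g (u h) := by
  classical
  let G := P ≃ₐ[E] P
  let n := Fintype.card G
  let eG : G ≃ Fin n := Fintype.equivFin G
  haveI : NeZero n := ⟨Fintype.card_pos.ne'⟩
  let a : G → Matrix (Fin n) (Fin n) P := fun g => Matrix.of fun i j =>
    if i = eG (g * eG.symm j) then algebraMap E P (c g (eG.symm j)) else 0
  have hamul : ∀ g h, a g * a h = algebraMap E P (c g h) • a (g * h) := by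
    intro g h
    ext i j
    rw [Matrix.mul_apply, Finset.sum_eq_single (eG (h * eG.symm j))]
    · simp only [a, Matrix.of_apply, Matrix.smul_apply, smul_eq_mul, if_true, Equiv.symm_apply_apply, mul_assoc g]
      split_ifs with hi
      · rw [← map_mul, ← map_mul, hc, mul_comm]
      · rw [zero_mul, mul_zero]
    · intro l _ hl
      simp only [a, Matrix.of_apply, if_neg hl, mul_zero]
    · intro hl; exact absurd (Finset.mem_univ _) hl
  have hfix : ∀ g h : G, (a h).map g = a h := fun g h => by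
    ext i j
    simp only [a, Matrix.map_apply, Matrix.of_apply]
    split_ifs
    · exact g.commutes _
    · exact map_zero g
  have hau : ∀ g, IsUnit (a g).det := by
    intro g
    have h1 : a g * a g⁻¹ = algebraMap E P (c g g⁻¹) • a 1 := by rw [hamul, mul_inv_cancel]
    have h2 : a 1 = algebraMap E P (c 1 1) • (1 : Matrix (Fin n) (Fin n) P) := by
      ext i j
      have hcj : ∀ l, c 1 l = c 1 1 := fun l => by
        have := hc 1 1 l
        rw [one_mul, one_mul] at this
        exact (mul_right_cancel₀ (hc0 1 l) (by rw [this])).symm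
      simp only [a, Matrix.of_apply, one_mul, Equiv.apply_symm_apply, Matrix.smul_apply, Matrix.one_apply, smul_eq_mul]
      split_ifs with hij
      · rw [hcj, mul_one]
      · rw [mul_zero]
    have h3 := congrArg Matrix.det h1
    rw [Matrix.det_mul, h2, smul_smul, Matrix.det_smul, Matrix.det_one, mul_one] at h3
    refine isUnit_of_mul_isUnit_left (y := (a g⁻¹).det) ?_
    rw [h3]
    exact (isUnit_iff_ne_zero.mpr (mul_ne_zero
      ((map_ne_zero_iff _ (algebraMap E P).injective).mpr (hc0 _ _))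
      ((map_ne_zero_iff _ (algebraMap E P).injective).mpr (hc0 _ _)))).pow _
  let T : G → GL (Fin n) P := fun g => Matrix.GeneralLinearGroup.mk'' (a g) (hau g)
  have hT : ∀ g, (T g : Matrix (Fin n) (Fin n) P) = a g := fun g => rfl
  have hcoc : GpH1.IsOneCocycle (fun g : G => Matrix.ProjGenLinGroup.mk (T g)) := by
    intro g h
    apply (H23CSA.Descent.autEquiv P n).injective
    refine AlgEquiv.ext fun Z => ?_
    rw [map_mul, AlgEquiv.mul_apply, show g • Matrix.ProjGenLinGroup.mk (T h) = Matrix.ProjGenLinGroup.mk (g • T h)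
      from rfl, H23CSA.Descent.autEquiv_mk, H23CSA.Descent.autEquiv_mk, H23CSA.Descent.autEquiv_mk]
    have hu : IsUnit (a (g * h)) := (Matrix.isUnit_iff_isUnit_det _).mpr (hau _)
    have hgT : ((g • T h : GL (Fin n) P) : Matrix (Fin n) (Fin n) P) = a h := hfix g h
    have hgTi : (((g • T h)⁻¹ : GL (Fin n) P) : Matrix (Fin n) (Fin n) P) = (a h)⁻¹ := by
      rw [Matrix.coe_units_inv, hgT]
    rw [hgT, hgTi, Matrix.coe_units_inv, Matrix.coe_units_inv, hT, hT]
    have h0 : algebraMap E P (c g h) ≠ 0 := (map_ne_zero_iff _ (algebraMap E P).injective).mpr (hc0 _ _)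
    have e1 : a g * a h = algebraMap E P (c g h) • a (g * h) := hamul g h
    have e2 : (a h)⁻¹ * (a g)⁻¹ = (algebraMap E P (c g h))⁻¹ • (a (g * h))⁻¹ := by
      rw [← Matrix.mul_inv_rev, e1]
      exact Matrix.inv_eq_left_inv (by
        rw [Matrix.smul_mul, Matrix.mul_smul, smul_smul, inv_mul_cancel₀ h0, one_smul,
          Matrix.nonsing_inv_mul _ (hau _)])
    simp only [← mul_assoc]
    rw [mul_assoc (a g * a h * Z), e2, e1, Matrix.smul_mul, Matrix.smul_mul, Matrix.mul_smul, smul_smul,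
      mul_inv_cancel₀ h0, one_smul]
  let C : GpH1.OneCocycle G (Matrix.ProjGenLinGroup (Fin n) P) := ⟨_, hcoc⟩
  let A := H23CSA.Descent.form C
  let θ : P ⊗[E] A ≃ₐ[P] Matrix (Fin n) (Fin n) P :=
    AlgEquiv.ofBijective _ (H23CSA.Descent.formMap_bijective C)
  have hA : Curves.Splits E A P := ⟨n, NeZero.ne n, ⟨θ⟩⟩
  obtain ⟨_, _, _⟩ := csa_of_splits A P hA
  obtain ⟨d, hd⟩ := exists_isIndex (k := E) A
  obtain ⟨hd0, m, hm, D, _, _, _, _, hfr, -⟩ := isIndex_elim hd
  rw [finrank_eq_one_of_isCr_one hE D] at hfr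
  obtain rfl : d = 1 := by simpa using hfr.symm
  obtain ⟨N, hN, ⟨eA⟩⟩ := splits_iff_isIndex_one.mpr hd
  have hNn : N = n := Nat.pow_left_injective two_ne_zero
    ((finrank_eq_sq_of_splits A E eA).symm.trans (finrank_eq_sq_of_splits A P θ))
  subst hNn
  let f : Matrix (Fin n) (Fin n) E →ₐ[E] Matrix (Fin n) (Fin n) P :=
    A.val.comp (((Algebra.TensorProduct.lid E A).symm.trans eA).symm.toAlgHom)
  obtain ⟨B, hB, hconj⟩ := exists_conj f ((Algebra.ofId E P).mapMatrix)
  have hBu : IsUnit B := (Matrix.isUnit_iff_isUnit_det B).mpr hB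
  have hfr' : Module.finrank E (Matrix (Fin n) (Fin n) E) = n * n := by
    rw [Module.finrank_matrix, Fintype.card_fin, Module.finrank_self, mul_one]
  have hscal : ∀ g : G, ∃ u : P, a g * B.map g = u • B := by
    intro g
    let S : Matrix (Fin n) (Fin n) P →+* Matrix (Fin n) (Fin n) P := (g : P →+* P).mapMatrix
    let ι := (Algebra.ofId E P).mapMatrix (m := Fin n)
    have hι : ∀ X, S (ι X) = ι X := fun X => Matrix.ext fun i j => g.commutes (X i j)
    have hf : ∀ X, a g * S (f X) = f X * a g := fun X => by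
      have hmem : H23CSA.Descent.tw C g (f X) = f X :=
        (((Algebra.TensorProduct.lid E A).symm.trans eA).symm X).2 g
      change H23CSA.Descent.autEquiv P n (Matrix.ProjGenLinGroup.mk (T g)) (S (f X)) = f X at hmem
      rw [H23CSA.Descent.autEquiv_mk, Matrix.coe_units_inv, hT] at hmem
      conv_rhs => rw [← hmem]
      rw [mul_assoc, Matrix.nonsing_inv_mul _ (hau g), mul_one]
    obtain ⟨u, hu⟩ := scalar_of_commute ι hfr' (B⁻¹ * (a g * S B)) fun X => by
      have h1 : S (f X) * S B = S B * ι X := by rw [← map_mul, hconj, map_mul, hι]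
      have h2 : ι X * B⁻¹ = B⁻¹ * f X := by
        refine hBu.mul_left_cancel ?_
        rw [← mul_assoc, ← hconj, mul_assoc, Matrix.mul_nonsing_inv _ hB, mul_one, ← mul_assoc,
          Matrix.mul_nonsing_inv _ hB, one_mul]
      rw [mul_assoc, mul_assoc, ← h1, ← mul_assoc (a g), hf, ← mul_assoc (ι X), h2, mul_assoc, mul_assoc]
    refine ⟨u, ?_⟩
    show a g * S B = u • B
    rw [← one_mul (a g * S B), ← Matrix.mul_nonsing_inv B hB, mul_assoc, hu, Matrix.mul_smul, mul_one]
  choose u hu using hscal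
  have hu0 : ∀ g, u g ≠ 0 := fun g h => by
    have h1 := congrArg Matrix.det (hu g)
    rw [h, zero_smul, Matrix.det_zero, Matrix.det_mul] at h1
    refine ((hau g).mul ?_).ne_zero h1
    show IsUnit ((g : P →+* P).mapMatrix B).det
    rw [← RingHom.map_det]
    exact hB.map _
  refine ⟨u, hu0, fun g h => ?_⟩
  have h1 : a g * (a h * B.map h).map g = (u g * g (u h)) • B := by
    rw [hu h, show (u h • B).map g = g (u h) • B.map g from Matrix.ext fun i j => map_mul g _ _,
      Matrix.mul_smul, hu g, smul_smul, mul_comm]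
  have h2 : a g * (a h * B.map h).map g = (algebraMap E P (c g h) * u (g * h)) • B := by
    rw [show (a h * B.map h).map g = (a h).map g * (B.map h).map g from map_mul ((g : P →+* P).mapMatrix) _ _,
      hfix, ← mul_assoc, hamul, Matrix.smul_mul, Matrix.map_map, show (⇑g ∘ ⇑h) = ⇑(g * h) from rfl, hu, smul_smul]
  by_contra hne
  exact hB.ne_zero (by
    have h3 := sub_eq_zero.mpr (h2.symm.trans h1)
    rw [← sub_smul, smul_eq_zero] at h3
    rw [h3.resolve_left (sub_ne_zero.mpr hne), Matrix.det_zero])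

end coboundary

end Groth.Agent.H23Brauer
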