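import Groth.Prelude.Def_ConstAct2
import Groth.Prelude.Def_ActBC
import Groth.Prelude.Def_Red
import Groth.Agent.H18Torsor.Glue

/-!
# Points of a torsor under a constant group in an algebraically closed field
-/

set_option autoImplicit false
set_option linter.style.haveILetI false

open CategoryTheory MonoidalCategory CartesianMonoidalCategory MonObj AlgebraicGeometry Limits

universe u

namespace Groth.Agent.H23Brauer

/-- If two torsors become isomorphic over `L`, the points of the second in an algebraically closed field over `L`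
are fixed by every automorphism over `L` which fixes a suitable finite Galois extension of the base of the first. -/
theorem exists_finite_fixing {k K L L₀ F Ω : Type u} [Field k] [Field K] [Field L] [Field L₀] [Field F] [Field Ω]
    [CharZero L₀] [IsAlgClosed Ω] [Algebra k L₀] [Algebra L₀ L] [Algebra K L] [Algebra K F] [Algebra K Ω]
    [Algebra L₀ Ω] [Algebra L Ω] [IsScalarTower K L Ω] [IsScalarTower L₀ L Ω]
    (G : Type u) [Group G] [Fintype G] [DecidableEq G]
    (c₀ : NonAbH1.TorsorSch (Red.bc (Spec.map (CommRingCat.ofHom (algebraMap k L₀))) (ConstAct.GR k G))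
      Scheme.etalePrecoverage)
    (i : Red.bc (Spec.map (CommRingCat.ofHom (algebraMap L₀ L))) c₀.X ≅
      Red.bc (Spec.map (CommRingCat.ofHom (algebraMap K L))) (ConstAct.X K F)) :
    ∃ N : IntermediateField L₀ Ω, FiniteDimensional L₀ N ∧ IsGalois L₀ N ∧
      ∀ σ : Ω ≃ₐ[L] Ω, (∀ x ∈ N, σ x = x) → ∀ (emb : F →ₐ[K] Ω) (y : F), σ (emb y) = emb y := by
  classical
  obtain ⟨hps, R, hR, hsec⟩ := c₀.isTorsor
  obtain ⟨I, Z, q, rfl⟩ := R.exists_eq_ofArrows
  obtain ⟨hsurj, hP⟩ := (Scheme.ofArrows_mem_precoverage_iff (P := @Etale)).mp hR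
  obtain ⟨j, y, -⟩ := hsurj (Nonempty.some inferInstance)
  obtain ⟨V, hV, hyV, -⟩ := exists_isAffineOpen_mem_and_subset (X := Z j) (x := y) (U := ⊤) trivial
  obtain ⟨s, hs⟩ := hsec (q j) ⟨j⟩
  let A := Γ(Z j, V)
  let φ : CommRingCat.of L₀ ⟶ A := Spec.preimage (hV.fromSpec ≫ q j)
  have hφ : Spec.map φ = hV.fromSpec ≫ q j := Spec.map_preimage _
  haveI : Etale (q j) := hP j
  have hft : φ.hom.FiniteType := by
    rw [← HasRingHomProperty.Spec_iff (P := @LocallyOfFiniteType), hφ]
    infer_instance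
  letI : Algebra L₀ A := φ.hom.toAlgebra
  haveI : Algebra.FiniteType L₀ A := hft
  haveI : Nontrivial A := by
    have : Nonempty (Spec A) := ⟨hV.isoSpec.hom ⟨y, hyV⟩⟩
    exact PrimeSpectrum.nonempty_iff_nontrivial.mp this
  obtain ⟨m, hm⟩ := Ideal.exists_maximal A
  letI := Ideal.Quotient.field m
  haveI : FiniteDimensional L₀ (A ⧸ m) := finite_of_finite_type_of_isJacobsonRing L₀ (A ⧸ m)
  let ψ : A →ₐ[L₀] Ω := (IsAlgClosed.lift (M := Ω) (R := L₀) (S := A ⧸ m)).comp (Ideal.Quotient.mkₐ L₀ m)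
  let N0 : IntermediateField L₀ Ω := (IsAlgClosed.lift (M := Ω) (R := L₀) (S := A ⧸ m)).fieldRange
  haveI : FiniteDimensional L₀ N0 :=
    Module.Finite.range (IsAlgClosed.lift (M := Ω) (R := L₀) (S := A ⧸ m)).toLinearMap
  let N := IntermediateField.normalClosure L₀ N0 Ω
  haveI : Normal L₀ N :=
    (Algebra.IsAlgebraic.isNormalClosure_normalClosure (F := L₀) (K := N0) (L := Ω)
      fun _ => IsAlgClosed.splits _).normal
  refine ⟨N, inferInstance, ⟨⟩, fun σ hσ emb z' => ?_⟩
  have hψ : ∀ a, σ (ψ a) = ψ a := fun a =>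
    hσ _ (IntermediateField.le_normalClosure N0 ⟨Ideal.Quotient.mk m a, rfl⟩)
  let t : Spec (CommRingCat.of Ω) ⟶ Spec (CommRingCat.of Ω) :=
    Spec.map (CommRingCat.ofHom (σ : Ω →+* Ω))
  have htL : t ≫ Spec.map (CommRingCat.ofHom (algebraMap L Ω)) = Spec.map (CommRingCat.ofHom (algebraMap L Ω)) := by
    rw [← Spec.map_comp, ← CommRingCat.ofHom_comp]
    exact congrArg (fun h => Spec.map (CommRingCat.ofHom h)) (RingHom.ext σ.commutes)
  have ht0 : t ≫ Spec.map (CommRingCat.ofHom (algebraMap L₀ Ω)) = Spec.map (CommRingCat.ofHom (algebraMap L₀ Ω)) := by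
    rw [IsScalarTower.algebraMap_eq L₀ L Ω, CommRingCat.ofHom_comp, Spec.map_comp, ← Category.assoc, htL]
  let W : Over (Spec (CommRingCat.of L₀)) := Over.mk (Spec.map (CommRingCat.ofHom (algebraMap L₀ Ω)))
  let τ : W ⟶ W := Over.homMk t ht0
  let p₀ : W ⟶ c₀.X := Over.homMk (Spec.map (CommRingCat.ofHom ψ.toRingHom) ≫ hV.fromSpec ≫ s) (by
    rw [Category.assoc, Category.assoc, hs, ← hφ, ← Spec.map_comp]
    exact congrArg (fun h => Spec.map h) (CommRingCat.hom_ext (RingHom.ext ψ.commutes)))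
  have hp₀ : τ ≫ p₀ = p₀ := by
    ext1
    show t ≫ Spec.map (CommRingCat.ofHom ψ.toRingHom) ≫ _ = Spec.map (CommRingCat.ofHom ψ.toRingHom) ≫ _
    rw [← Category.assoc, ← Spec.map_comp, ← CommRingCat.ofHom_comp]
    exact congrArg (fun h => Spec.map (CommRingCat.ofHom h) ≫ hV.fromSpec ≫ s) (RingHom.ext hψ)
  have hG : ∀ g : W ⟶ Red.bc (Spec.map (CommRingCat.ofHom (algebraMap k L₀))) (ConstAct.GR k G), τ ≫ g = g := by
    intro g
    ext1
    refine pullback.hom_ext ?_ ((Category.assoc _ _ _).trans (by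
      show t ≫ (g.left ≫ (Red.bc _ _).hom) = g.left ≫ (Red.bc _ _).hom
      rw [Over.w g]
      exact ht0))
    let f0 := Spec.map (CommRingCat.ofHom (algebraMap k L₀))
    let χ := Spec.preimage (g.left ≫ pullback.fst (ConstAct.GR k G).hom f0)
    have hχ : Spec.map χ = g.left ≫ pullback.fst (ConstAct.GR k G).hom f0 := Spec.map_preimage _
    show (t ≫ g.left) ≫ pullback.fst (ConstAct.GR k G).hom f0 = g.left ≫ pullback.fst (ConstAct.GR k G).hom f0
    have hc : ∀ c : k, χ.hom (algebraMap k (ConstGrp.F k G) c) = algebraMap L₀ Ω (algebraMap k L₀ c) := by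
      have h : Spec.map χ ≫ (ConstAct.GR k G).hom = W.hom ≫ f0 := by
        rw [hχ]
        exact (Category.assoc _ _ _).trans ((congrArg (g.left ≫ ·) pullback.condition).trans
          ((Category.assoc _ _ _).symm.trans (congrArg (· ≫ f0) (Over.w g))))
      change Spec.map χ ≫ Spec.map (CommRingCat.ofHom (algebraMap k (ConstGrp.F k G))) =
        Spec.map (CommRingCat.ofHom (algebraMap L₀ Ω)) ≫ Spec.map (CommRingCat.ofHom (algebraMap k L₀)) at h
      rw [← Spec.map_comp, ← Spec.map_comp] at h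
      exact fun c => RingHom.congr_fun (congrArg CommRingCat.Hom.hom (Spec.map_injective h)) c
    rw [Category.assoc, ← hχ]
    refine (Spec.map_comp _ _).symm.trans (congrArg (fun h => Spec.map h) (CommRingCat.hom_ext (RingHom.ext fun f => ?_)))
    show σ (χ.hom f) = χ.hom f
    rw [ConstGrp.eq_sum_smul_e f, map_sum, map_sum]
    refine Finset.sum_congr rfl fun x _ => ?_
    have he : χ.hom (ConstGrp.e k x) = 0 ∨ χ.hom (ConstGrp.e k x) = 1 :=
      IsIdempotentElem.iff_eq_zero_or_one.mp (by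
        show χ.hom _ * χ.hom _ = χ.hom _
        rw [← map_mul, ConstGrp.e_mul_e, if_pos rfl])
    rw [Algebra.smul_def, map_mul, map_mul, hc, IsScalarTower.algebraMap_apply L₀ L Ω, σ.commutes]
    rcases he with h | h <;> simp [h]
  have hp : ∀ p : W ⟶ c₀.X, τ ≫ p = p := by
    intro p
    obtain ⟨g, hg, -⟩ := H18Torsor.existsUnique_smul c₀.act hps p₀ p
    rw [← hg, H18Torsor.comp_smul, hG, hp₀]
  let T : Over (Spec (CommRingCat.of L)) := Over.mk (Spec.map (CommRingCat.ofHom (algebraMap L Ω)))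
  let τL : T ⟶ T := Over.homMk t htL
  let jK := Spec.map (CommRingCat.ofHom (algebraMap K L))
  let j₀ := Spec.map (CommRingCat.ofHom (algebraMap L₀ L))
  let z : T ⟶ Red.bc jK (ConstAct.X K F) := Over.homMk
    (pullback.lift (Spec.map (CommRingCat.ofHom emb.toRingHom)) (Spec.map (CommRingCat.ofHom (algebraMap L Ω))) (by
      show _ ≫ Spec.map (CommRingCat.ofHom (algebraMap K F)) = _ ≫ Spec.map (CommRingCat.ofHom (algebraMap K L))
      rw [← Spec.map_comp, ← Spec.map_comp, ← CommRingCat.ofHom_comp, ← CommRingCat.ofHom_comp]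
      exact congrArg (fun h => Spec.map (CommRingCat.ofHom h))
        ((RingHom.ext emb.commutes).trans (IsScalarTower.algebraMap_eq K L Ω))))
    (pullback.lift_snd _ _ _)
  let z₀ : T ⟶ Red.bc j₀ c₀.X := z ≫ i.inv
  let p : W ⟶ c₀.X := Over.homMk (z₀.left ≫ pullback.fst c₀.X.hom j₀) (by
    rw [Category.assoc, pullback.condition, ← Category.assoc]
    show (z₀.left ≫ (Red.bc j₀ c₀.X).hom) ≫ j₀ = _
    rw [Over.w z₀]
    show Spec.map _ ≫ Spec.map _ = Spec.map _
    rw [← Spec.map_comp, ← CommRingCat.ofHom_comp, ← IsScalarTower.algebraMap_eq L₀ L Ω])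
  have h0 : τL ≫ z₀ = z₀ := by
    ext1
    refine pullback.hom_ext ((Category.assoc _ _ _).trans (congrArg CommaMorphism.left (hp p))) ?_
    refine (Category.assoc _ _ _).trans ?_
    show t ≫ (z₀.left ≫ (Red.bc j₀ c₀.X).hom) = z₀.left ≫ (Red.bc j₀ c₀.X).hom
    rw [Over.w z₀]
    exact htL
  have hz : τL ≫ z = z := by
    calc τL ≫ z = (τL ≫ z₀) ≫ i.hom := by simp [z₀]
      _ = z₀ ≫ i.hom := by rw [h0]
      _ = z := by simp [z₀]
  have h := congrArg (fun m => m.left ≫ pullback.fst (ConstAct.X K F).hom jK) hz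
  change (t ≫ z.left) ≫ _ = z.left ≫ _ at h
  have hzf : z.left ≫ pullback.fst (ConstAct.X K F).hom jK = Spec.map (CommRingCat.ofHom emb.toRingHom) :=
    pullback.lift_fst _ _ _
  rw [Category.assoc, hzf] at h
  exact RingHom.congr_fun (congrArg CommRingCat.Hom.hom (Spec.map_injective ((Spec.map_comp _ _).trans h))) z'

end Groth.Agent.H23Brauer
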