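import Groth.Prelude.Def_NonAbH2
import Groth.Agent.H23Brauer.FixingSplit
import Groth.Agent.H23Brauer.ConstTorsor
import Groth.Agent.H23Brauer.TorsorPoints

/-!
# Torsors of essential dimension one and splitting of Brauer classes
-/

set_option autoImplicit false
set_option linter.style.haveILetI false

open CategoryTheory AlgebraicGeometry
open scoped TensorProduct

universe u

namespace Groth.Agent.H23Brauer

/-- If all torsors under finite constant groups over `K` become of essential dimension at most one over extensions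
with the property `Q`, then all Brauer classes of finite extensions of `K` are split by such extensions. -/
theorem exists_splitting (k K : Type u) [Field k] [IsAlgClosed k] [CharZero k] [Field K] [Algebra k K]
    (Q : ∀ (L : Type u) [Field L] [Algebra K L], Prop)
    (h13 : ∀ (S : Over (Spec (CommRingCat.of k))) [GrpObj S] [IsFinite S.hom]
      (β : NonAbH1.TorsorSch (Red.bc (Spec.map (CommRingCat.ofHom (algebraMap k K))) S) Scheme.etalePrecoverage),
      ∃ (L : Type u) (_ : Field L) (_ : Algebra K L) (_ : IsGalois K L),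
        Q L ∧
        ∃ (L₀ : Type u) (_ : Field L₀) (_ : Algebra k L₀) (_ : Algebra L₀ L)
          (hc : Spec.map (CommRingCat.ofHom (algebraMap L₀ L)) ≫ Spec.map (CommRingCat.ofHom (algebraMap k L₀)) = Spec.map (CommRingCat.ofHom (algebraMap K L)) ≫ Spec.map (CommRingCat.ofHom (algebraMap k K)))
          (c₀ : NonAbH1.TorsorSch (Red.bc (Spec.map (CommRingCat.ofHom (algebraMap k L₀))) S) Scheme.etalePrecoverage),
          Algebra.trdeg k L₀ ≤ 1 ∧
          Nonempty (NonAbH1.EquivIso
            ((c₀.act.bc (Spec.map (CommRingCat.ofHom (algebraMap L₀ L)))).restrict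
              (ActBC.bcCompIso (Spec.map (CommRingCat.ofHom (algebraMap L₀ L))) (Spec.map (CommRingCat.ofHom (algebraMap k L₀))) S hc).inv)
            ((β.act.bc (Spec.map (CommRingCat.ofHom (algebraMap K L)))).restrict
              (ActBC.bcCompIso (Spec.map (CommRingCat.ofHom (algebraMap K L))) (Spec.map (CommRingCat.ofHom (algebraMap k K))) S rfl).inv)))
    (E : Type u) [Field E] [Algebra K E] [FiniteDimensional K E]
    (D : Type u) [DivisionRing D] [Algebra E D] [Algebra.IsCentral E D] [FiniteDimensional E D] :
    ∃ (L : Type u) (_ : Field L) (_ : Algebra K L) (_ : IsGalois K L),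
      Q L ∧
      ∀ (M : Type u) [Field M] [Algebra K M] [Algebra E M] [Algebra L M] [IsScalarTower K E M]
        [IsScalarTower K L M],
        ∃ n : ℕ, Nonempty ((M ⊗[E] D) ≃ₐ[M] Matrix (Fin n) (Fin n) M) := by
  classical
  obtain ⟨F, _, _, _, _, _, _, _, _, n, _, ρ, P, c, hn, hP, hconj, hc⟩ := exists_normalized k K E D
  haveI : FiniteDimensional E F := FiniteDimensional.right K E F
  haveI : IsGalois E F := IsGalois.tower_top_of_isGalois K E F
  haveI := isFinite_GR k (F ≃ₐ[K] F)
  obtain ⟨L, _, _, hL, hQ, L₀, _, _, _, hcomm, c₀, htd, ⟨e⟩⟩ :=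
    h13 (ConstAct.GR k (F ≃ₐ[K] F)) (galoisTorsor k K F)
  refine ⟨L, inferInstance, inferInstance, hL, hQ, ?_⟩
  intro M _ _ _ _ _ _
  let i : Red.bc (Spec.map (CommRingCat.ofHom (algebraMap L₀ L))) c₀.X ≅
      Red.bc (Spec.map (CommRingCat.ofHom (algebraMap K L))) (ConstAct.X K F) := e.iso
  rw [← Spec.map_comp, ← Spec.map_comp] at hcomm
  have hkL : ∀ a : k, algebraMap L₀ L (algebraMap k L₀ a) = algebraMap K L (algebraMap k K a) := fun a =>
    RingHom.congr_fun (congrArg CommRingCat.Hom.hom (Spec.map_injective hcomm)) a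
  haveI : CharZero L₀ := charZero_of_injective_algebraMap (algebraMap k L₀).injective
  haveI : CharZero K := charZero_of_injective_algebraMap (algebraMap k K).injective
  haveI : CharZero M := charZero_of_injective_algebraMap (algebraMap K M).injective
  letI : Algebra L₀ M := ((algebraMap L M).comp (algebraMap L₀ L)).toAlgebra
  haveI : IsScalarTower L₀ L M := IsScalarTower.of_algebraMap_eq' rfl
  let Ω := AlgebraicClosure M
  haveI : IsScalarTower L₀ L Ω := IsScalarTower.of_algebraMap_eq fun x => by
    rw [IsScalarTower.algebraMap_apply L₀ M Ω, IsScalarTower.algebraMap_apply L₀ L M,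
      IsScalarTower.algebraMap_apply L M Ω]
  let emb : F →ₐ[E] Ω := IsAlgClosed.lift
  haveI : IsScalarTower K L Ω := IsScalarTower.of_algebraMap_eq fun x => by
    rw [IsScalarTower.algebraMap_apply K M Ω, IsScalarTower.algebraMap_apply K L M,
      IsScalarTower.algebraMap_apply L M Ω]
  haveI : IsScalarTower K E Ω := IsScalarTower.of_algebraMap_eq fun x => by
    rw [IsScalarTower.algebraMap_apply K M Ω, IsScalarTower.algebraMap_apply K E M,
      IsScalarTower.algebraMap_apply E M Ω]
  obtain ⟨N, _, _, hfix⟩ := exists_finite_fixing (Ω := Ω) (F ≃ₐ[K] F) c₀ i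
  have h := splits_of_fixing (k := k) (M := M) htd
    (fun σ a => by
      rw [IsScalarTower.algebraMap_apply k K F, IsScalarTower.algebraMap_apply K E F, σ.commutes])
    ρ hn P hP hconj c hc emb
    (fun a => by
      rw [IsScalarTower.algebraMap_apply k K F, IsScalarTower.algebraMap_apply K E F, emb.commutes,
        IsScalarTower.algebraMap_apply L₀ L Ω, hkL, ← IsScalarTower.algebraMap_apply K E Ω,
        ← IsScalarTower.algebraMap_apply K L Ω])
    N (fun σ hσ y => hfix (σ.restrictScalars L) hσ (emb.restrictScalars K) y)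
  obtain ⟨m, -, hm⟩ := h
  exact ⟨m, hm⟩

end Groth.Agent.H23Brauer
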